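import Groth.Agent.FEtGal.Coprod

/-!
Full faithfulness of restriction gives bijections of clopen subsets of covers.
-/

set_option autoImplicit false
set_option maxHeartbeats 800000
set_option backward.isDefEq.respectTransparency false
set_option backward.isDefEq.respectTransparency.types false
set_option linter.style.haveILetI false

universe u

open CategoryTheory CategoryTheory.Limits AlgebraicGeometry TopologicalSpace Groth.Agent.FEtGal

noncomputable section

namespace Groth.Agent.VdimThree

variable {X : Scheme.{u}}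

/-- A clopen piece of a cover. -/
def piece (Y : FEt.Cat X) (W : Y.left.Opens) (hW : IsClosed (W : Set Y.left)) : FEt.Cat X :=
  MorphismProperty.Over.mk ⊤ (W.ι ≫ str Y) (by
    haveI : IsClosedImmersion W.ι := IsClosedImmersion.of_isPreimmersion W.ι (by rw [Scheme.Opens.range_ι]; exact hW)
    exact ⟨inferInstance, inferInstance⟩)

/-- The inclusion of a clopen piece. -/
def pieceHom (Y : FEt.Cat X) (W : Y.left.Opens) (hW : IsClosed (W : Set Y.left)) : piece Y W hW ⟶ Y :=
  MorphismProperty.Over.homMk W.ι rfl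

instance (Y : FEt.Cat X) (W : Y.left.Opens) (hW : IsClosed (W : Set Y.left)) :
    IsOpenImmersion (pieceHom Y W hW).left := inferInstanceAs (IsOpenImmersion W.ι)

theorem range_pieceHom (Y : FEt.Cat X) (W : Y.left.Opens) (hW : IsClosed (W : Set Y.left)) :
    Set.range (pieceHom Y W hW).left = (W : Set Y.left) := W.range_ι

/-- Maps to a two point cover are determined by a clopen subset, and every clopen subset occurs. -/
theorem bijective_two {O D : FEt.Cat X} [IsIso O.hom] (a b : O ⟶ D) [IsOpenImmersion a.left] [IsOpenImmersion b.left]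
    (h : IsCompl (Set.range a.left) (Set.range b.left)) (Y : FEt.Cat X) :
    (∀ C : Set Y.left, IsClopen C → ∃ φ : Y ⟶ D, φ.left ⁻¹' Set.range a.left = C) ∧
      (∀ φ ψ : Y ⟶ D, φ.left ⁻¹' Set.range a.left = ψ.left ⁻¹' Set.range a.left → φ = ψ) := by
  let toO : ∀ P : FEt.Cat X, P ⟶ O := fun P => MorphismProperty.Over.homMk (P.hom ≫ inv O.hom) (by simp)
  have hcomp : ∀ {P : FEt.Cat X} (φ : P ⟶ D) (c : O ⟶ D) [IsOpenImmersion c.left],
      Set.range φ.left ⊆ Set.range c.left → φ = toO P ≫ c := fun {P} φ c _ hr => by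
    refine hom_ext_left ?_
    have hg : IsOpenImmersion.lift c.left φ.left hr ≫ O.hom = P.hom := by
      rw [← MorphismProperty.Over.w c, ← Category.assoc, IsOpenImmersion.lift_fac]
      exact MorphismProperty.Over.w φ
    show φ.left = (P.hom ≫ inv O.hom) ≫ c.left
    rw [← hg, Category.assoc _ O.hom, IsIso.hom_inv_id, Category.comp_id, IsOpenImmersion.lift_fac]
  refine ⟨fun C hC => ?_, fun φ ψ he => ?_⟩
  · let W : Y.left.Opens := ⟨C, hC.2⟩
    let W' : Y.left.Opens := ⟨Cᶜ, hC.1.isOpen_compl⟩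
    obtain ⟨hl⟩ := nonempty_isColimit_of_isCompl (pieceHom Y W hC.1) (pieceHom Y W' hC.2.isClosed_compl)
      (by rw [range_pieceHom, range_pieceHom]; exact isCompl_compl)
    obtain ⟨φ, hφ⟩ := BinaryCofan.IsColimit.desc' hl (toO _ ≫ a) (toO _ ≫ b)
    refine ⟨φ, Set.ext fun y => ⟨fun hy => by_contra fun hne => ?_, fun hy => ?_⟩⟩
    · have h1 : φ.left y ∈ Set.range b.left := by
        have e : W'.ι ≫ φ.left = (toO (piece Y W' hC.2.isClosed_compl) ≫ b).left :=
          congrArg (fun m => m.left) hφ.2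
        exact ⟨(toO (piece Y W' hC.2.isClosed_compl)).left ⟨y, hne⟩, congr($(e).base ⟨y, hne⟩).symm⟩
      exact Set.disjoint_left.1 h.disjoint hy h1
    · have e : W.ι ≫ φ.left = (toO (piece Y W hC.1) ≫ a).left := congrArg (fun m => m.left) hφ.1
      exact ⟨(toO (piece Y W hC.1)).left ⟨y, hy⟩, congr($(e).base ⟨y, hy⟩).symm⟩
  · let C : Set Y.left := φ.left ⁻¹' Set.range a.left
    have hC : IsClopen C := by
      refine IsClopen.preimage ⟨?_, a.left.isOpenEmbedding.isOpen_range⟩ φ.left.continuous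
      rw [h.eq_compl]
      exact b.left.isOpenEmbedding.isOpen_range.isClosed_compl
    let W : Y.left.Opens := ⟨C, hC.2⟩
    let W' : Y.left.Opens := ⟨Cᶜ, hC.1.isOpen_compl⟩
    obtain ⟨hl⟩ := nonempty_isColimit_of_isCompl (pieceHom Y W hC.1) (pieceHom Y W' hC.2.isClosed_compl)
      (by rw [range_pieceHom, range_pieceHom]; exact isCompl_compl)
    refine BinaryCofan.IsColimit.hom_ext hl ?_ ?_
    · refine (hcomp (pieceHom Y W hC.1 ≫ φ) a ?_).trans (hcomp (pieceHom Y W hC.1 ≫ ψ) a ?_).symm
      · rintro _ ⟨w, rfl⟩; exact w.2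
      · rintro _ ⟨w, rfl⟩; exact he.le w.2
    · refine (hcomp (pieceHom Y W' hC.2.isClosed_compl ≫ φ) b ?_).trans
        (hcomp (pieceHom Y W' hC.2.isClosed_compl ≫ ψ) b ?_).symm
      · rintro _ ⟨w, rfl⟩; rw [← h.compl_eq]; exact w.2
      · rintro _ ⟨w, rfl⟩; rw [← h.compl_eq]; exact fun hw => w.2 (he.ge hw)

/-- Fully faithful restriction identifies clopen subsets of covers. -/
theorem existsUnique_clopen_of_full_faithful {T : Scheme.{u}} (i : T ⟶ X) [(FEt.restrict i).Full]
    [(FEt.restrict i).Faithful] (Z : FEt.Cat X) (C : Set ↥(pullback Z.hom i)) (hC : IsClopen C) :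
    ∃! W : Set Z.left, IsClopen W ∧ pullback.fst Z.hom i ⁻¹' W = C := by
  let one : FEt.Cat X := MorphismProperty.Over.mk ⊤ (𝟙 X) (MorphismProperty.id_mem _ _)
  let D := coprodObj one one
  let a := inlHom one one
  let b := inrHom one one
  haveI : IsIso one.hom := inferInstanceAs (IsIso (𝟙 X))
  haveI : IsIso ((FEt.restrict i).obj one).hom := inferInstanceAs (IsIso (pullback.snd (𝟙 X) i))
  have hR : IsCompl (Set.range ((FEt.restrict i).map a).left) (Set.range ((FEt.restrict i).map b).left) := by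
    rw [range_restrict_map, range_restrict_map]
    exact (isCompl_inlHom one one).map (CompleteLatticeHom.setPreimage _)
  obtain ⟨hex, huniq⟩ := bijective_two ((FEt.restrict i).map a) ((FEt.restrict i).map b) hR ((FEt.restrict i).obj Z)
  obtain ⟨hexX, -⟩ := bijective_two a b (isCompl_inlHom one one) Z
  have key : ∀ ψ : Z ⟶ D, ((FEt.restrict i).map ψ).left ⁻¹' Set.range ((FEt.restrict i).map a).left =
      pullback.fst Z.hom i ⁻¹' (ψ.left ⁻¹' Set.range a.left) := fun ψ => by
    rw [range_restrict_map, ← Set.preimage_comp, ← Set.preimage_comp]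
    refine congrArg (· ⁻¹' Set.range a.left) (funext fun z => ?_)
    exact congr($((isPullback_restrict_map i ψ).w).base z)
  obtain ⟨φ, hφ⟩ := hex C hC
  let ψ := (FEt.restrict i).preimage φ
  have hclop : ∀ ψ : Z ⟶ D, IsClopen (ψ.left ⁻¹' Set.range a.left) := fun ψ => by
    refine IsClopen.preimage ⟨?_, a.left.isOpenEmbedding.isOpen_range⟩ ψ.left.continuous
    rw [(isCompl_inlHom one one).eq_compl]
    exact b.left.isOpenEmbedding.isOpen_range.isClosed_compl
  refine ⟨_, ⟨hclop ψ, by rw [← key, (FEt.restrict i).map_preimage, hφ]⟩, fun W ⟨hW, hWC⟩ => ?_⟩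
  obtain ⟨ψ', hψ'⟩ := hexX W hW
  have e : ψ' = ψ := (FEt.restrict i).map_injective
    (huniq _ _ (by rw [key, hψ', hWC, (FEt.restrict i).map_preimage, hφ]))
  rw [← hψ', e]

end Groth.Agent.VdimThree
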