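import Groth.Agent.VdimThree.Glue
import Mathlib.AlgebraicGeometry.Morphisms.Flat
import Mathlib.AlgebraicGeometry.Morphisms.IsIso
import Mathlib.AlgebraicGeometry.Morphisms.QuasiSeparated

/-!
Gluing a finite etale cover of the spectrum of a flat extension with a scheme over the base along the
complement of a closed subset.
-/

set_option autoImplicit false
set_option maxHeartbeats 800000
set_option backward.isDefEq.respectTransparency false
set_option linter.style.haveILetI false

universe u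

open CategoryTheory CategoryTheory.Limits AlgebraicGeometry Opposite TopologicalSpace TensorProduct

noncomputable section

namespace Groth.Agent.VdimThree

theorem exists_pow_eq_zero_of_res {X : Scheme.{u}} [CompactSpace X] (s x : Γ(X, ⊤)) (U : X.Opens)
    (hU : U = X.basicOpen s) (hx : X.presheaf.map (homOfLE le_top : U ⟶ ⊤).op x = 0) : ∃ n : ℕ, s ^ n * x = 0 := by
  subst hU
  exact exists_pow_mul_eq_zero_of_res_basicOpen_eq_zero_of_isCompact X isCompact_univ x s hx

theorem exists_pow_mul_eq_res {X : Scheme.{u}} [CompactSpace X] [QuasiSeparatedSpace X] (s : Γ(X, ⊤)) (U : X.Opens)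
    (hU : U = X.basicOpen s) (z : Γ(X, U)) :
    ∃ (n : ℕ) (y : Γ(X, ⊤)), X.presheaf.map (homOfLE le_top : U ⟶ ⊤).op y =
      X.presheaf.map (homOfLE le_top : U ⟶ ⊤).op s ^ n * z := by
  subst hU
  exact exists_eq_pow_mul_of_isCompact_of_isQuasiSeparated X ⊤ isCompact_univ isQuasiSeparated_univ s z

variable {X Y : Scheme.{u}} [CompactSpace X] [QuasiSeparatedSpace X] [CompactSpace Y] [QuasiSeparatedSpace Y]
  (k : X ⟶ Y) (c : Γ(Y, ⊤))

theorem preimage_basicOpen' : k ⁻¹ᵁ Y.basicOpen c = X.basicOpen (k.appTop c) :=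
  Scheme.preimage_basicOpen k c

theorem app_res (x : Γ(Y, ⊤)) :
    k.app (Y.basicOpen c) (Y.presheaf.map (homOfLE le_top : Y.basicOpen c ⟶ ⊤).op x) =
      X.presheaf.map (homOfLE le_top : k ⁻¹ᵁ Y.basicOpen c ⟶ ⊤).op (k.appTop x) :=
  congr($(k.naturality (homOfLE le_top : Y.basicOpen c ⟶ ⊤).op) x)

/-- Over a basic open where a map is an isomorphism, sections agree up to powers of the equation. -/
theorem torsion_of_isIso [IsIso (k ∣_ Y.basicOpen c)] :
    (∀ x, k.appTop x = 0 → ∃ n : ℕ, c ^ n * x = 0) ∧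
      (∀ y, ∃ (n : ℕ) (x : Γ(Y, ⊤)), k.appTop x = k.appTop c ^ n * y) := by
  have hbij : Function.Bijective (k.app (Y.basicOpen c)).hom := by
    have h : IsIso ((k ∣_ Y.basicOpen c).appTop) := inferInstance
    rw [Scheme.Hom.appTop, morphismRestrict_app] at h
    have h' : IsIso (k.app ((Y.basicOpen c).ι ''ᵁ ⊤)) := (isIso_comp_right_iff _ _).1 h
    rw [Scheme.Opens.ι_image_top] at h'
    exact ConcreteCategory.bijective_of_isIso (k.app (Y.basicOpen c))
  refine ⟨fun x hx => exists_pow_eq_zero_of_res c x _ rfl (hbij.1 ?_), fun y => ?_⟩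
  · rw [app_res, hx, map_zero, map_zero]
  · obtain ⟨w, hw⟩ := hbij.2 (X.presheaf.map (homOfLE le_top : k ⁻¹ᵁ Y.basicOpen c ⟶ ⊤).op y)
    obtain ⟨n, x, hx⟩ := exists_pow_mul_eq_res c _ rfl w
    have h1 := congr((k.app (Y.basicOpen c)).hom $hx)
    rw [map_mul, map_pow, app_res, app_res, hw, ← map_pow, ← map_mul, ← sub_eq_zero, ← map_sub] at h1
    obtain ⟨m, hm⟩ := exists_pow_eq_zero_of_res (k.appTop c) _ _ (preimage_basicOpen' k c) h1
    refine ⟨m + n, c ^ m * x, ?_⟩
    rw [mul_sub, sub_eq_zero] at hm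
    rw [map_mul, map_pow, hm, pow_add, mul_assoc]

/-- Conversely, a map with affine preimage of an affine basic open is an isomorphism over it when the
sections agree up to powers of the equation. -/
theorem isIso_morphismRestrict_of_torsion (hY : IsAffineOpen (Y.basicOpen c))
    (hX : IsAffineOpen (k ⁻¹ᵁ Y.basicOpen c)) (hker : ∀ x, k.appTop x = 0 → ∃ n : ℕ, c ^ n * x = 0)
    (hcok : ∀ y, ∃ (n : ℕ) (x : Γ(Y, ⊤)), k.appTop x = k.appTop c ^ n * y) :
    IsIso (k ∣_ Y.basicOpen c) := by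
  let rY : Γ(Y, ⊤) →+* Γ(Y, Y.basicOpen c) := (Y.presheaf.map (homOfLE le_top : Y.basicOpen c ⟶ ⊤).op).hom
  let rX : Γ(X, ⊤) →+* Γ(X, k ⁻¹ᵁ Y.basicOpen c) :=
    (X.presheaf.map (homOfLE le_top : k ⁻¹ᵁ Y.basicOpen c ⟶ ⊤).op).hom
  have hu : IsUnit (rY c) := RingedSpace.isUnit_res_basicOpen _ c
  have hku : IsUnit (rX (k.appTop c)) := app_res k c c ▸ hu.map (k.app (Y.basicOpen c)).hom
  have hbij : Function.Bijective (k.app (Y.basicOpen c)).hom := by
    refine ⟨(injective_iff_map_eq_zero _).2 fun w hw => ?_, fun z => ?_⟩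
    · obtain ⟨n, x, hx⟩ := exists_pow_mul_eq_res c _ rfl w
      change rY x = rY c ^ n * w at hx
      have h1 : rX (k.appTop x) = 0 := by
        rw [← show k.app (Y.basicOpen c) (rY x) = _ from app_res k c x, hx, map_mul, hw, mul_zero]
      obtain ⟨m, hm⟩ := exists_pow_eq_zero_of_res (k.appTop c) _ _ (preimage_basicOpen' k c) h1
      obtain ⟨j, hj⟩ := hker (c ^ m * x) (by rw [map_mul, map_pow, hm])
      have h2 := congrArg rY hj
      rw [map_mul, map_mul, map_zero, map_pow, map_pow, hx] at h2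
      exact (hu.pow n).mul_right_eq_zero.1 ((hu.pow m).mul_right_eq_zero.1 ((hu.pow j).mul_right_eq_zero.1 h2))
    · obtain ⟨n, y, hy⟩ := exists_pow_mul_eq_res (k.appTop c) _ (preimage_basicOpen' k c) z
      change rX y = rX (k.appTop c) ^ n * z at hy
      obtain ⟨m, x, hx⟩ := hcok y
      refine ⟨rY x * ↑((hu.pow (m + n)).unit⁻¹), ?_⟩
      refine ((hku.pow (m + n)).mul_right_inj).1 ?_
      have e : rX (k.appTop c) ^ (m + n) = k.app (Y.basicOpen c) (rY c ^ (m + n)) := by
        rw [map_pow]; exact (congrArg (· ^ (m + n)) (app_res k c c)).symm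
      rw [map_mul, e, mul_comm (k.app (Y.basicOpen c) (rY x)), ← mul_assoc, ← map_mul,
        IsUnit.mul_val_inv, map_one, one_mul, show k.app (Y.basicOpen c) (rY x) = _ from app_res k c x, ← e]
      show rX (k.appTop x) = _
      rw [hx, map_mul, map_pow, hy, pow_add, mul_assoc]
  haveI : IsAffine (Y.basicOpen c : Scheme.{u}) := hY
  haveI : IsAffine (k ⁻¹ᵁ Y.basicOpen c : Scheme.{u}) := hX
  refine (HasAffineProperty.iff_of_isAffine (P := MorphismProperty.isomorphisms Scheme.{u})).2 ⟨inferInstance, ?_⟩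
  haveI : IsIso (k.app (Y.basicOpen c)) := (ConcreteCategory.isIso_iff_bijective _).2 hbij
  rw [Scheme.Hom.appTop, morphismRestrict_app]
  have : IsIso (k.app ((Y.basicOpen c).ι ''ᵁ ⊤)) := by rw [Scheme.Opens.ι_image_top]; infer_instance
  infer_instance

omit [CompactSpace X] [QuasiSeparatedSpace X] [CompactSpace Y] [QuasiSeparatedSpace Y] in
theorem isIso_morphismRestrict_of_subset_range [IsOpenImmersion k] (D : Y.Opens)
    (hD : (D : Set Y) ⊆ Set.range k) : IsIso (k ∣_ D) := by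
  rw [isIso_iff_isOpenImmersion_and_surjective]
  refine ⟨inferInstance, ⟨fun y => ?_⟩⟩
  obtain ⟨x, hx⟩ := hD y.2
  exact ⟨⟨x, show k x ∈ D from hx ▸ y.2⟩, Subtype.ext (by rw [morphismRestrict_base_coe]; exact hx)⟩

omit [CompactSpace X] [QuasiSeparatedSpace X] [CompactSpace Y] [QuasiSeparatedSpace Y]

variable {A S : Type u} [CommRing A] [CommRing S] [Algebra A S] [Module.FaithfullyFlat A S]

/-- Gluing an `S`-algebra and an `A`-scheme over the complement of `V(I)`. -/
theorem exists_glue_aux {I : Ideal A} (hI : I.FG)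
    (hq : Function.Bijective (Ideal.quotientMap (I.map (algebraMap A S)) (algebraMap A S) Ideal.le_comap_map))
    (C : Type u) [CommRing C] [Algebra S C]
    (σ : X ⟶ Spec (CommRingCat.of A)) [QuasiCompact σ] [QuasiSeparated σ]
    (haff : ∀ f ∈ I, IsAffineOpen (σ ⁻¹ᵁ PrimeSpectrum.basicOpen f))
    (k : pullback (Spec.map (CommRingCat.ofHom (algebraMap A S))) σ ⟶ Spec (CommRingCat.of C)) [IsOpenImmersion k]
    (hk : k ≫ Spec.map (CommRingCat.ofHom (algebraMap S C)) = pullback.fst _ _)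
    (hrange : ∀ f ∈ I, ((PrimeSpectrum.basicOpen (algebraMap S C (algebraMap A S f))) : Set (PrimeSpectrum C)) ⊆
      Set.range k) :
    ∃ (E : Type u) (_ : CommRing E) (_ : Algebra A E) (_ : S ⊗[A] E ≃ₐ[S] C)
      (h : X ⟶ Spec (CommRingCat.of E)), h ≫ Spec.map (CommRingCat.ofHom (algebraMap A E)) = σ ∧
      ∀ f ∈ I, IsIso (h ∣_ PrimeSpectrum.basicOpen (algebraMap A E f)) := by
  haveI : CompactSpace X := QuasiCompact.compactSpace_of_compactSpace σ
  haveI : QuasiSeparatedSpace X := quasiSeparatedSpace_of_quasiSeparated σ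
  let g := Spec.map (CommRingCat.ofHom (algebraMap A S))
  haveI : Flat g := Flat.SpecMap_iff.2 (RingHom.flat_algebraMap_iff.2 inferInstance)
  let P := pullback g σ
  haveI : QuasiCompact (pullback.fst g σ) := inferInstance
  haveI : QuasiSeparated (pullback.fst g σ) := inferInstance
  haveI : CompactSpace ↥P := QuasiCompact.compactSpace_of_compactSpace (pullback.fst g σ)
  haveI : QuasiSeparatedSpace ↥P := quasiSeparatedSpace_of_quasiSeparated (pullback.fst g σ)
  let N := Γ(X, ⊤)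
  let cN : CommRingCat.of A ⟶ N := (Scheme.ΓSpecIso (CommRingCat.of A)).inv ≫ σ.appTop
  letI : Algebra A N := cN.hom.toAlgebra
  have Hc : IsPullback (pullback.snd g σ) (pullback.fst g σ) σ g := (IsPullback.of_hasPullback g σ).flip
  have hpo0 : IsPushout g.appTop σ.appTop (pullback.fst g σ).appTop (pullback.snd g σ).appTop := by
    have h := (isIso_pushoutSection_iff Hc (US := ⊤) (UT := ⊤) (UX := ⊤) (UY := ⊤) (by simp) (by simp)
      (by simp)).mp (isIso_pushoutSection_of_isQuasiSeparated_of_flat_right Hc (by simp) (by simp)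
        (by simp) (isAffineOpen_top _) (isAffineOpen_top _) isCompact_univ isQuasiSeparated_univ)
    have hle : ∀ {X Y : Scheme.{u}} (f : X ⟶ Y) (e : (⊤ : X.Opens) ≤ f ⁻¹ᵁ ⊤),
        f.appLE ⊤ ⊤ e = f.appTop := fun f e ↦ by simp [Scheme.Hom.appLE]
    simpa only [hle] using h.flip
  have hpo : IsPushout (CommRingCat.ofHom (algebraMap A S)) cN
      ((Scheme.ΓSpecIso (CommRingCat.of S)).inv ≫ (pullback.fst g σ).appTop) (pullback.snd g σ).appTop := by
    refine hpo0.of_iso (Scheme.ΓSpecIso _) (Scheme.ΓSpecIso _) (Iso.refl _) (Iso.refl _) ?_ ?_ ?_ ?_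
    · exact Scheme.ΓSpecIso_naturality _
    · simp [cN]
    · simp
    · simp
  have hte := CommRingCat.isPushout_tensorProduct A S N
  rw [show CommRingCat.ofHom (algebraMap A N) = cN from rfl] at hte
  let θ := hte.isoIsPushout _ _ hpo
  have hinl : ∀ s : S, θ.hom (s ⊗ₜ[A] (1 : N)) = (pullback.fst g σ).appTop ((Scheme.ΓSpecIso (CommRingCat.of S)).inv s) :=
    fun s => congr($(IsPushout.inl_isoIsPushout_hom _ _ hte hpo) s)
  let ψk : CommRingCat.of C ⟶ Γ(P, ⊤) := (Scheme.ΓSpecIso (CommRingCat.of C)).inv ≫ k.appTop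
  have hψk : ∀ s : S, ψk (algebraMap S C s) = θ.hom (s ⊗ₜ[A] (1 : N)) := fun s => by
    rw [hinl, ← hk, Scheme.Hom.comp_appTop]
    exact congr(k.appTop.hom $(congr($(Scheme.ΓSpecIso_inv_naturality (CommRingCat.ofHom (algebraMap S C))) s)))
  let φ : C →ₐ[S] S ⊗[A] N :=
    { toRingHom := θ.inv.hom.comp ψk.hom
      commutes' := fun s => by
        show θ.inv (ψk (algebraMap S C s)) = _
        rw [hψk, ← CommRingCat.comp_apply, θ.hom_inv_id]
        rfl }
  have hθ : Function.Bijective θ.inv.hom := ConcreteCategory.bijective_of_isIso θ.inv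
  have hkD : ∀ f ∈ I, IsIso (k ∣_ (Spec (CommRingCat.of C)).basicOpen
      ((Scheme.ΓSpecIso (CommRingCat.of C)).inv (algebraMap S C (algebraMap A S f)))) := fun f hf => by
    refine isIso_morphismRestrict_of_subset_range k _ ?_
    rw [basicOpen_eq_of_affine]
    exact hrange f hf
  let ιC := (Scheme.ΓSpecIso (CommRingCat.of C)).inv
  have hιC : Function.Bijective ιC.hom := ConcreteCategory.bijective_of_isIso ιC
  obtain ⟨E, _, _, ψ, eC, -, hkerψ, hcokψ⟩ := exists_algebra_glue A S I hI hq N C φ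
    (fun x hx f hf => by
      haveI := hkD f hf
      obtain ⟨n, hn⟩ := (torsion_of_isIso k (ιC (algebraMap S C (algebraMap A S f)))).1 (ιC x)
        (hθ.1 (hx.trans (map_zero _).symm))
      refine ⟨n, hιC.1 ?_⟩
      rw [map_zero, Algebra.smul_def, map_mul, map_pow, map_pow]
      exact hn)
    (fun y f hf => by
      haveI := hkD f hf
      obtain ⟨n, x, hx⟩ := (torsion_of_isIso k (ιC (algebraMap S C (algebraMap A S f)))).2 (θ.hom y)
      obtain ⟨x, rfl⟩ := hιC.2 x
      refine ⟨n, x, ?_⟩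
      show θ.inv (k.appTop (ιC x)) = _
      rw [hx, map_mul, map_pow, Algebra.smul_def, map_pow, ← φ.commutes]
      congr 1
      rw [← CommRingCat.comp_apply, θ.hom_inv_id]
      rfl)
  let h : X ⟶ Spec (CommRingCat.of E) := X.toSpecΓ ≫ Spec.map (CommRingCat.ofHom ψ.toRingHom)
  let ιE := (Scheme.ΓSpecIso (CommRingCat.of E)).inv
  have hιE : Function.Bijective ιE.hom := ConcreteCategory.bijective_of_isIso ιE
  have hψ : ιE ≫ h.appTop = CommRingCat.ofHom ψ.toRingHom := by
    simp only [ιE, h, Scheme.Hom.comp_appTop, Scheme.toSpecΓ_appTop]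
    rw [Scheme.ΓSpecIso_naturality, Iso.inv_hom_id_assoc]
  have hσ : h ≫ Spec.map (CommRingCat.ofHom (algebraMap A E)) = σ := by
    refine ext_of_isAffine ?_
    rw [← cancel_epi (Scheme.ΓSpecIso (CommRingCat.of A)).inv, Scheme.Hom.comp_appTop,
      ← Scheme.ΓSpecIso_inv_naturality_assoc]
    change CommRingCat.ofHom (algebraMap A E) ≫ ιE ≫ h.appTop = cN
    rw [hψ, ← CommRingCat.ofHom_comp]
    ext a
    exact ψ.commutes a
  have hψe : ∀ e : E, h.appTop (ιE e) = ψ e := fun e => congr($hψ e)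
  refine ⟨E, inferInstance, inferInstance, eC, h, hσ, fun f hf => ?_⟩
  let c := ιE (algebraMap A E f)
  have hD : (Spec (CommRingCat.of E)).basicOpen c = PrimeSpectrum.basicOpen (algebraMap A E f) := basicOpen_eq_of_affine _
  rw [← hD]
  refine isIso_morphismRestrict_of_torsion h c ((isAffineOpen_top _).basicOpen c) ?_ (fun x hx => ?_) (fun y => ?_)
  · have hpre : h ⁻¹ᵁ (Spec (CommRingCat.of E)).basicOpen c = σ ⁻¹ᵁ PrimeSpectrum.basicOpen f := by
      rw [hD, ← hσ, Scheme.Hom.comp_preimage]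
      rfl
    rw [hpre]
    exact haff f hf
  · obtain ⟨x, rfl⟩ := hιE.2 x
    obtain ⟨n, hn⟩ := hkerψ x (by rw [← hψe]; exact hx) f hf
    refine ⟨n, ?_⟩
    rw [Algebra.smul_def, map_pow] at hn
    rw [← map_pow, ← map_mul, hn, map_zero]
  · obtain ⟨n, x, hx⟩ := hcokψ y f hf
    refine ⟨n, ιE x, ?_⟩
    rw [hψe, hψe, show ψ x = _ from hx, Algebra.smul_def, map_pow, ψ.commutes]

/-- Gluing a finite etale `S`-algebra and an `A`-scheme over the complement of `V(I)`. -/
theorem exists_glue {I : Ideal A} (hI : I.FG)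
    (hq : Function.Bijective (Ideal.quotientMap (I.map (algebraMap A S)) (algebraMap A S) Ideal.le_comap_map))
    (C : Type u) [CommRing C] [Algebra S C] [Module.Finite S C] [Algebra.Etale S C]
    (σ : X ⟶ Spec (CommRingCat.of A)) [QuasiCompact σ] [QuasiSeparated σ]
    (haff : ∀ f ∈ I, IsAffineOpen (σ ⁻¹ᵁ PrimeSpectrum.basicOpen f))
    (k : pullback (Spec.map (CommRingCat.ofHom (algebraMap A S))) σ ⟶ Spec (CommRingCat.of C)) [IsOpenImmersion k]
    (hk : k ≫ Spec.map (CommRingCat.ofHom (algebraMap S C)) = pullback.fst _ _)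
    (hrange : ∀ f ∈ I, ((PrimeSpectrum.basicOpen (algebraMap S C (algebraMap A S f))) : Set (PrimeSpectrum C)) ⊆
      Set.range k) :
    ∃ (E : Type u) (_ : CommRing E) (_ : Algebra A E) (_ : Module.Finite A E) (_ : Algebra.Etale A E)
      (h : X ⟶ Spec (CommRingCat.of E)), h ≫ Spec.map (CommRingCat.ofHom (algebraMap A E)) = σ ∧
      ∀ f ∈ I, IsIso (h ∣_ PrimeSpectrum.basicOpen (algebraMap A E f)) := by
  obtain ⟨E, _, _, e, h, hσ, hiso⟩ := exists_glue_aux hI hq C σ haff k hk hrange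
  haveI : Module.Finite S (S ⊗[A] E) := Module.Finite.equiv e.symm.toLinearEquiv
  haveI : Algebra.Etale S (S ⊗[A] E) := Algebra.Etale.of_equiv e.symm
  exact ⟨E, inferInstance, inferInstance, Module.Finite.of_finite_tensorProduct_of_faithfullyFlat S,
    Algebra.Etale.of_etale_tensorProduct_of_faithfullyFlat (T := S), h, hσ, hiso⟩

end Groth.Agent.VdimThree
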