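import Groth.Agent.S17762
import Groth.Agent.S0318
import Groth.Agent.S11617
import Groth.Agent.Cohen.Structure
import Groth.Agent.Goren.Basic
import Groth.Agent.CplLim.Basic
import Groth.Prelude.Def_Wider

/-!
From power torsion of the first two local cohomology modules to depth plus dimension exceeding two.
-/

set_option autoImplicit false
set_option maxHeartbeats 1000000
set_option backward.isDefEq.respectTransparency false
set_option linter.style.haveILetI false

universe u

open TensorProduct IsLocalRing

noncomputable section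

namespace Groth.Agent.VdimThree

/-- Over a complete local ring, torsion of `H^1` and `H^2` gives depth plus dimension at least three off `f = 0`. -/
theorem two_lt_of_torsion {A : Type u} [CommRing A] [IsNoetherianRing A] [IsLocalRing A]
    [IsAdicComplete (maximalIdeal A) A] {f : A} (hf : f ∈ maximalIdeal A)
    (h : ∀ i : ℕ, 1 ≤ i → i ≤ 2 → ∃ n : ℕ, ∀ x : LocCoh.H (maximalIdeal A) i A, (f ^ n) • x = 0)
    (p : Ideal A) [p.IsPrime] (hfp : f ∉ p) :
    (2 : WithBot ℕ∞) < (LocCoh.depth (Localization.AtPrime p) (Localization.AtPrime p) : WithBot ℕ∞) +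
      ringKrullDim (A ⧸ p) := by
  haveI : Nontrivial (A ⧸ p) := Ideal.Quotient.nontrivial_iff.2 ‹p.IsPrime›.ne_top
  haveI : IsLocalRing (A ⧸ p) := .of_surjective' (Ideal.Quotient.mk p) Ideal.Quotient.mk_surjective
  obtain ⟨e, he⟩ := SerreReg.exists_dim_nat (A ⧸ p)
  have he1 : 1 ≤ e := by
    by_contra h0
    have h0' : ringKrullDim (A ⧸ p) ≤ 0 := by rw [he]; exact_mod_cast (by omega : e ≤ 0)
    haveI : Ring.KrullDimLE 0 (A ⧸ p) := Ring.krullDimLE_iff.2 h0'
    have hm : p.IsMaximal := Ideal.Quotient.maximal_of_isField _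
      (Ring.KrullDimLE.isField_of_isDomain (R := A ⧸ p))
    exact hfp ((IsLocalRing.eq_maximalIdeal hm).symm ▸ hf)
  rw [he]
  by_contra hle
  have hle' : LocCoh.depth (Localization.AtPrime p) (Localization.AtPrime p) + (e : ℕ∞) ≤ 2 := by
    rw [← WithBot.coe_natCast e, ← WithBot.coe_add, show (2 : WithBot ℕ∞) = ((2 : ℕ∞) : WithBot ℕ∞) from rfl,
      WithBot.coe_lt_coe] at hle
    exact not_lt.1 hle
  obtain ⟨n, hn⟩ : ∃ n : ℕ, LocCoh.depth (Localization.AtPrime p) (Localization.AtPrime p) = n := by
    obtain ⟨n, hn⟩ := ENat.ne_top_iff_exists.1 (fun ht : LocCoh.depth (Localization.AtPrime p) (Localization.AtPrime p) = ⊤ => by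
      rw [ht, top_add] at hle'; exact absurd hle' (by decide))
    exact ⟨n, hn.symm⟩
  rw [hn] at hle'
  have hne : n + e ≤ 2 := by exact_mod_cast hle'
  haveI : IsNoetherianRing (Localization.AtPrime p) := IsLocalization.isNoetherianRing p.primeCompl _ inferInstance
  obtain ⟨-, hnt⟩ := (S0318.result (Localization.AtPrime p) (maximalIdeal (Localization.AtPrime p))
    (Localization.AtPrime p) (by
      rw [smul_eq_mul, Ideal.mul_top]; exact (maximalIdeal.isMaximal _).ne_top) n).1 hn
  obtain ⟨Λ, _, r, g, hΛ, hg⟩ := Cohen.exists_presentation A (IsNoetherian.noetherian _)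
  haveI := Cohen.isRegularLocalRing_coeff hΛ
  haveI := Cohen.isRegularLocalRing_mvPowerSeries Λ r
  haveI : LocCoh.IsGorensteinLocalRing (MvPowerSeries (Fin r) Λ) := Goren.isGorenstein_of_regular _
  obtain ⟨N, hN⟩ := h (n + e) (by omega) hne
  have hle2 : Ideal.span {f} ≤ (Module.annihilator A (LocCoh.H (maximalIdeal A) (n + e) A)).radical := by
    rw [Ideal.span_singleton_le_iff_mem]
    exact ⟨N, Module.mem_annihilator.2 hN⟩
  have hsub := (S17762.result A _ g hg A (Ideal.span {f}) (n + e)).1 hle2 p
    (fun hpf => hfp (hpf (Ideal.mem_span_singleton_self f))) n (by rw [he]; push_cast; ring)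
  exact not_subsingleton (LocCoh.H (maximalIdeal (Localization.AtPrime p)) n (Localization.AtPrime p)) hsub

/-- Power torsion of local cohomology passes to the completion. -/
theorem torsion_completion {A : Type u} [CommRing A] [IsNoetherianRing A] [IsLocalRing A] {f : A} (i : ℕ)
    (h : ∃ n : ℕ, ∀ x : LocCoh.H (maximalIdeal A) i A, (f ^ n) • x = 0) :
    ∃ n : ℕ, ∀ x : LocCoh.H (maximalIdeal (AdicCompletion (maximalIdeal A) A)) i (AdicCompletion (maximalIdeal A) A),
      (algebraMap A (AdicCompletion (maximalIdeal A) A) f ^ n) • x = 0 := by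
  let B := AdicCompletion (maximalIdeal A) A
  obtain ⟨n, hn⟩ := h
  haveI : Module.FaithfullyFlat A B := CplLim.faithfullyFlat_completion A
  obtain ⟨θ⟩ := S11617.result A B (maximalIdeal A) A i
  let e := ((localCohomology ((maximalIdeal A).map (algebraMap A B)) i).mapIso
    (TensorProduct.AlgebraTensorModule.rid A B B).toModuleIso).toLinearEquiv
  refine ⟨n, ?_⟩
  rw [AdicCompletion.maximalIdeal_eq_map]
  intro x
  obtain ⟨y, rfl⟩ := e.surjective x
  obtain ⟨z, rfl⟩ := θ.surjective y
  have hz : (algebraMap A B f ^ n) • z = 0 := by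
    rw [← map_pow, algebraMap_smul]
    induction z using TensorProduct.induction_on with
    | zero => rw [smul_zero]
    | tmul b w => rw [← TensorProduct.tmul_smul, hn, TensorProduct.tmul_zero]
    | add a b ha hb => rw [smul_add, ha, hb, add_zero]
  exact ((e.map_smul _ _).symm.trans (congrArg e ((θ.map_smul _ _).symm.trans (congrArg θ hz)))).trans
    (by rw [map_zero, map_zero])

end Groth.Agent.VdimThree
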