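import Groth.Agent.VdimThree.DescentFF
import Groth.Agent.VdimThree.Torsion
import Groth.Agent.HensPair.Quot
import Groth.Agent.EGA41Cohen.Basic
import Groth.Agent.LefEssSurj.PurStep
import Groth.Agent.S1139
import Groth.Agent.S0376

/-!
Full faithfulness of restriction to a hypersurface of the punctured spectrum under torsion hypotheses.
-/

set_option autoImplicit false
set_option maxHeartbeats 1000000
set_option backward.isDefEq.respectTransparency false
set_option backward.isDefEq.respectTransparency.types false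
set_option linter.style.haveILetI false

universe u

open CategoryTheory CategoryTheory.Limits AlgebraicGeometry TopologicalSpace

noncomputable section

attribute [local instance] HasDerivedCategory.standard

namespace Groth.Agent.VdimThree

theorem isPullback_quotient_spec {A B : Type u} [CommRing A] [CommRing B] (φ : A →+* B) (I : Ideal A) (J : Ideal B)
    (hJ : J = I.map φ) (h : I ≤ J.comap φ) :
    IsPullback (Spec.map (CommRingCat.ofHom (Ideal.Quotient.mk J))) (Spec.map (CommRingCat.ofHom (Ideal.quotientMap J φ h)))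
      (Spec.map (CommRingCat.ofHom φ)) (Spec.map (CommRingCat.ofHom (Ideal.Quotient.mk I))) := by
  subst hJ
  exact isPullback_SpecMap_of_isPushout _ _ _ _ (HensPair.isPushout_quotient φ I)

/-- Torsion `H^1`, `H^2` and henselian: restriction to the hypersurface is fully faithful. -/
theorem full_faithful_of_torsion {A : Type u} [CommRing A] [IsNoetherianRing A] [IsLocalRing A] {f : A}
    (hf : f ∈ IsLocalRing.maximalIdeal A) [HenselianRing A (Ideal.span {f})]
    (h1 : ∃ n : ℕ, ∀ x : LocCoh.H (IsLocalRing.maximalIdeal A) 1 A, (f ^ n) • x = 0)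
    (h2 : ∃ n : ℕ, ∀ x : LocCoh.H (IsLocalRing.maximalIdeal A) 2 A, (f ^ n) • x = 0) :
    (FEt.restrict (pullback.fst (FEt.puncturedSpec A).ι
        (Spec.map (CommRingCat.ofHom (Ideal.Quotient.mk (Ideal.span {f})))))).Full ∧
      (FEt.restrict (pullback.fst (FEt.puncturedSpec A).ι
        (Spec.map (CommRingCat.ofHom (Ideal.Quotient.mk (Ideal.span {f})))))).Faithful := by
  refine full_faithful_of_completion f ?_
  let B := AdicCompletion (IsLocalRing.maximalIdeal A) A
  let g : B := algebraMap A B f
  have hg : g ∈ IsLocalRing.maximalIdeal B := by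
    rw [AdicCompletion.maximalIdeal_eq_map]; exact Ideal.mem_map_of_mem _ hf
  haveI : IsAdicComplete (Ideal.span {g}) B := EGA41Cohen.isAdicComplete_ideal _
    (ne_top_of_le_ne_top (IsLocalRing.maximalIdeal.isMaximal B).ne_top ((Ideal.span_singleton_le_iff_mem _).2 hg))
  have htor : ∀ i : ℕ, 1 ≤ i → i ≤ 2 → ∃ n : ℕ, ∀ x : LocCoh.H (IsLocalRing.maximalIdeal B) i B, (g ^ n) • x = 0 := by
    intro i hi1 hi2
    interval_cases i
    · exact torsion_completion 1 h1
    · exact torsion_completion 2 h2
  obtain ⟨hfull, hfaith⟩ := S1139.result B g hg (S0376.result B)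
    (Or.inr fun p _ hgp => two_lt_of_torsion hg htor p hgp)
  let U := FEt.puncturedSpec A
  let UB := FEt.puncturedSpec B
  let s := Spec.map (CommRingCat.ofHom (Ideal.Quotient.mk (Ideal.span {f})))
  let sB := Spec.map (CommRingCat.ofHom (Ideal.Quotient.mk (Ideal.span {g})))
  let b := Spec.map (CommRingCat.ofHom (algebraMap A B))
  let χ : A ⧸ Ideal.span {f} →+* B ⧸ Ideal.span {g} := Ideal.quotientMap _ (algebraMap A B) (by
    rw [Ideal.span_singleton_le_iff_mem, Ideal.mem_comap]; exact Ideal.mem_span_singleton_self g)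
  let cχ := Spec.map (CommRingCat.ofHom χ)
  have hc : IsPullback sB cχ b s :=
    isPullback_quotient_spec _ _ _ (by rw [Ideal.map_span, Set.image_singleton]) _
  have hpre : b ⁻¹ᵁ U = UB := FormAlg.preimage_punctured _ (by
    rw [AdicCompletion.maximalIdeal_eq_map]; exact Ideal.le_radical)
  let a : (UB : Scheme.{u}) ⟶ pullback U.ι b :=
    (Scheme.isoOfEq _ hpre.symm).hom ≫ (isPullback_morphismRestrict b U).isoPullback.hom
  haveI : IsIso a := inferInstance
  have ha2 : a ≫ pullback.snd U.ι b = UB.ι := by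
    rw [Category.assoc, IsPullback.isoPullback_hom_snd, Scheme.isoOfEq_hom_ι]
  have haj : (a ≫ pullback.fst U.ι b) ≫ U.ι = UB.ι ≫ b := by
    rw [Category.assoc, pullback.condition, reassoc_of% ha2]
  have hQ : IsPullback (pullback.fst UB.ι sB) (pullback.snd UB.ι sB ≫ cχ) (UB.ι ≫ b) s :=
    ((IsPullback.of_hasPullback UB.ι sB).flip.paste_horiz hc.flip).flip
  let t : pullback UB.ι sB ⟶ pullback U.ι s :=
    pullback.lift (pullback.fst UB.ι sB ≫ a ≫ pullback.fst U.ι b) (pullback.snd UB.ι sB ≫ cχ)
      (by rw [Category.assoc, haj]; exact hQ.w)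
  have hQ' : IsPullback (pullback.fst UB.ι sB) t (a ≫ pullback.fst U.ι b) (pullback.fst U.ι s) := by
    refine IsPullback.of_bot (v₂₁ := pullback.snd U.ι s) (v₂₂ := U.ι) (h₃₁ := s) ?_
      (pullback.lift_fst _ _ _).symm (IsPullback.of_hasPullback U.ι s)
    rw [pullback.lift_snd, haj]
    exact hQ
  have hQ'' : IsPullback (pullback.fst UB.ι sB ≫ a) t (pullback.fst U.ι b) (pullback.fst U.ι s) :=
    hQ'.of_iso (Iso.refl _) (asIso a) (Iso.refl _) (Iso.refl _) (by simp) (by simp) (by simp) (by simp)
  let u' := pullback.fst (pullback.fst U.ι b) (pullback.fst U.ι s)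
  let w := hQ''.isoPullback.hom
  have hw : w ≫ u' = pullback.fst UB.ι sB ≫ a := hQ''.isoPullback_hom_fst
  haveI := LefEssSurj.restrict_isEquivalence_of_isIso a
  haveI := LefEssSurj.restrict_isEquivalence_of_isIso w
  haveI : (FEt.restrict (pullback.fst UB.ι sB)).Full := hfull
  haveI : (FEt.restrict (pullback.fst UB.ι sB)).Faithful := hfaith
  let e : FEt.restrict u' ⋙ FEt.restrict w ≅ FEt.restrict a ⋙ FEt.restrict (pullback.fst UB.ι sB) :=
    (LefEssSurj.restrictComp w u' _ hw).symm ≪≫ LefEssSurj.restrictComp (pullback.fst UB.ι sB) a _ rfl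
  exact ⟨Functor.Full.of_comp_faithful_iso e, Functor.Faithful.of_comp_iso e⟩

end Groth.Agent.VdimThree
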