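import Groth.Agent.VdimThree.Extend
import Groth.Agent.VdimThree.Torsion
import Groth.Agent.S1140
import Groth.Agent.S0376

/-!
Extension of covers of the punctured spectrum from a hypersurface, by passage to the completion.
-/

set_option autoImplicit false
set_option maxHeartbeats 1000000
set_option backward.isDefEq.respectTransparency false
set_option backward.isDefEq.respectTransparency.types false
set_option linter.style.haveILetI false

universe u

open CategoryTheory CategoryTheory.Limits AlgebraicGeometry TopologicalSpace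

noncomputable section

attribute [local instance] HasDerivedCategory.standard

namespace Groth.Agent.VdimThree

/-- Torsion `H^1`, `H^2`: a cover extends if it does so on the hypersurface. -/
theorem extends_of_torsion (A : Type u) [CommRing A] [IsNoetherianRing A] [IsLocalRing A] (f : A)
    (hf : f ∈ IsLocalRing.maximalIdeal A)
    (h1 : ∃ n : ℕ, ∀ x : LocCoh.H (IsLocalRing.maximalIdeal A) 1 A, (f ^ n) • x = 0)
    (h2 : ∃ n : ℕ, ∀ x : LocCoh.H (IsLocalRing.maximalIdeal A) 2 A, (f ^ n) • x = 0)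
    (V : FEt.Cat (FEt.puncturedSpec A : Scheme.{u}))
    (hV : ∃ Y₀ : FEt.Cat (Spec (CommRingCat.of (A ⧸ Ideal.span {f}))),
      Nonempty ((FEt.restrict (pullback.snd (FEt.puncturedSpec A).ι
          (Spec.map (CommRingCat.ofHom (Ideal.Quotient.mk (Ideal.span {f})))))).obj Y₀ ≅
        (FEt.restrict (pullback.fst (FEt.puncturedSpec A).ι
          (Spec.map (CommRingCat.ofHom (Ideal.Quotient.mk (Ideal.span {f})))))).obj V)) :
    ∃ Y : FEt.Cat (Spec (CommRingCat.of A)), Nonempty ((FEt.restrict (FEt.puncturedSpec A).ι).obj Y ≅ V) := by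
  obtain ⟨Y₀, ⟨η⟩⟩ := hV
  let B := AdicCompletion (IsLocalRing.maximalIdeal A) A
  let g : B := algebraMap A B f
  have hg : g ∈ IsLocalRing.maximalIdeal B := by
    rw [AdicCompletion.maximalIdeal_eq_map]; exact Ideal.mem_map_of_mem _ hf
  haveI : IsAdicComplete (Ideal.span {g}) B := EGA41Cohen.isAdicComplete_ideal _
    (ne_top_of_le_ne_top (IsLocalRing.maximalIdeal.isMaximal B).ne_top ((Ideal.span_singleton_le_iff_mem _).2 hg))
  let U := FEt.puncturedSpec A
  let UB := FEt.puncturedSpec B
  let s := Spec.map (CommRingCat.ofHom (Ideal.Quotient.mk (Ideal.span {f})))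
  let sB := Spec.map (CommRingCat.ofHom (Ideal.Quotient.mk (Ideal.span {g})))
  let b := Spec.map (CommRingCat.ofHom (algebraMap A B))
  let χ : A ⧸ Ideal.span {f} →+* B ⧸ Ideal.span {g} := Ideal.quotientMap _ (algebraMap A B) (by
    rw [Ideal.span_singleton_le_iff_mem, Ideal.mem_comap]; exact Ideal.mem_span_singleton_self g)
  let cχ := Spec.map (CommRingCat.ofHom χ)
  have hsq : cχ ≫ s = sB ≫ b := by
    simp only [cχ, s, sB, b, ← Spec.map_comp, ← CommRingCat.ofHom_comp]
    rfl
  have hpre : b ⁻¹ᵁ U = UB := FormAlg.preimage_punctured _ (by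
    rw [AdicCompletion.maximalIdeal_eq_map]; exact Ideal.le_radical)
  let j : (UB : Scheme.{u}) ⟶ U := (Scheme.isoOfEq _ hpre.symm).hom ≫ b ∣_ U
  have hj : j ≫ U.ι = UB.ι ≫ b := by
    rw [Category.assoc, morphismRestrict_ι, Scheme.isoOfEq_hom_ι_assoc]
  have hjs : (pullback.fst UB.ι sB ≫ j) ≫ U.ι = (pullback.snd UB.ι sB ≫ cχ) ≫ s := by
    rw [Category.assoc, hj, pullback.condition_assoc, Category.assoc, hsq]
  let t : pullback UB.ι sB ⟶ pullback U.ι s :=
    pullback.lift (pullback.fst UB.ι sB ≫ j) (pullback.snd UB.ι sB ≫ cχ) hjs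
  have hVB : ∃ Y₁ : FEt.Cat (Spec (CommRingCat.of (B ⧸ Ideal.span {g}))),
      Nonempty ((FEt.restrict (pullback.snd UB.ι sB)).obj Y₁ ≅
        (FEt.restrict (pullback.fst UB.ι sB)).obj ((FEt.restrict j).obj V)) :=
    ⟨(FEt.restrict cχ).obj Y₀, ⟨((LefEssSurj.restrictComp (pullback.snd UB.ι sB) cχ _ rfl).app Y₀).symm ≪≫
      (LefEssSurj.restrictComp t (pullback.snd U.ι s) _ (pullback.lift_snd _ _ _)).app Y₀ ≪≫
      (FEt.restrict t).mapIso η ≪≫
      ((LefEssSurj.restrictComp t (pullback.fst U.ι s) _ (pullback.lift_fst _ _ _)).app V).symm ≪≫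
      (LefEssSurj.restrictComp (pullback.fst UB.ι sB) j _ rfl).app V⟩⟩
  have htor : ∀ i : ℕ, 1 ≤ i → i ≤ 2 → ∃ n : ℕ, ∀ x : LocCoh.H (IsLocalRing.maximalIdeal B) i B, (g ^ n) • x = 0 := by
    intro i hi1 hi2
    interval_cases i
    · exact torsion_completion 1 h1
    · exact torsion_completion 2 h2
  obtain ⟨Y', ⟨ξ⟩⟩ := S1140.result B g hg (S0376.result B)
    (Or.inr fun p _ hgp => two_lt_of_torsion hg htor p hgp) ((FEt.restrict j).obj V) hVB
  let a : (UB : Scheme.{u}) ⟶ pullback U.ι b := pullback.lift j UB.ι hj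
  haveI : IsIso a := by
    have h : a = (Scheme.isoOfEq _ hpre.symm).hom ≫ (isPullback_morphismRestrict b U).isoPullback.hom := by
      apply pullback.hom_ext
      · rw [pullback.lift_fst, Category.assoc, IsPullback.isoPullback_hom_fst]
      · rw [pullback.lift_snd, Category.assoc, IsPullback.isoPullback_hom_snd, Scheme.isoOfEq_hom_ι]
    rw [h]; infer_instance
  haveI := LefEssSurj.restrict_isEquivalence_of_isIso a
  exact exists_extension_of_completion A V Y' ((FEt.restrict a).preimageIso
    (((LefEssSurj.restrictComp a (pullback.snd U.ι b) _ (pullback.lift_snd _ _ _)).app Y').symm ≪≫ ξ ≪≫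
      (LefEssSurj.restrictComp a (pullback.fst U.ι b) _ (pullback.lift_fst _ _ _)).app V))

end Groth.Agent.VdimThree
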