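import Groth.Agent.VdimThree.Sch
import Groth.Agent.LefEssSurj.PurStep
import Groth.Agent.CplLim.Basic
import Groth.Prelude.Def_FEt

/-!
A finite etale cover of the punctured spectrum extends if it does so after completion; purity passes from
the completion to extension criteria on the base.
-/

set_option autoImplicit false
set_option maxHeartbeats 1000000
set_option backward.isDefEq.respectTransparency false
set_option backward.isDefEq.respectTransparency.types false
set_option linter.style.haveILetI false

universe u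

open CategoryTheory CategoryTheory.Limits AlgebraicGeometry TopologicalSpace

noncomputable section

namespace Groth.Agent.VdimThree

theorem isoSpec_hom_SpecMap {X : Scheme.{u}} [IsAffine X] {R : CommRingCat.{u}} (f : X ⟶ Spec R) :
    X.isoSpec.hom ≫ Spec.map ((Scheme.ΓSpecIso R).inv ≫ f.appTop) = f := by
  rw [Spec.map_comp, Scheme.isoSpec_hom_naturality_assoc, Scheme.isoSpec_Spec_hom, ← Spec.map_comp,
    Iso.inv_hom_id, Spec.map_id, Category.comp_id]

variable (A : Type u) [CommRing A] [IsNoetherianRing A] [IsLocalRing A]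

/-- An extension of a cover of the punctured spectrum over the completion descends. -/
theorem exists_extension_of_completion (V : FEt.Cat (FEt.puncturedSpec A : Scheme.{u}))
    (Y' : FEt.Cat (Spec (CommRingCat.of (AdicCompletion (IsLocalRing.maximalIdeal A) A))))
    (e : (FEt.restrict (pullback.snd (FEt.puncturedSpec A).ι (Spec.map (CommRingCat.ofHom
        (algebraMap A (AdicCompletion (IsLocalRing.maximalIdeal A) A)))))).obj Y' ≅
      (FEt.restrict (pullback.fst (FEt.puncturedSpec A).ι (Spec.map (CommRingCat.ofHom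
        (algebraMap A (AdicCompletion (IsLocalRing.maximalIdeal A) A)))))).obj V) :
    ∃ Y : FEt.Cat (Spec (CommRingCat.of A)), Nonempty ((FEt.restrict (FEt.puncturedSpec A).ι).obj Y ≅ V) := by
  let B := AdicCompletion (IsLocalRing.maximalIdeal A) A
  let U := FEt.puncturedSpec A
  let g := Spec.map (CommRingCat.ofHom (algebraMap A B))
  haveI : IsFinite Y'.hom := Y'.prop.1
  haveI : Etale Y'.hom := Y'.prop.2
  haveI : IsFinite V.hom := V.prop.1
  haveI : IsAffine Y'.left := isAffine_of_isAffineHom (X := Y'.left) (Y := Spec (CommRingCat.of B)) Y'.hom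
  let C := Γ(Y'.left, ⊤)
  let r : CommRingCat.of B ⟶ C := (Scheme.ΓSpecIso (CommRingCat.of B)).inv ≫ Y'.hom.appTop
  letI : Algebra B C := r.hom.toAlgebra
  have hr : Y'.left.isoSpec.hom ≫ Spec.map r = Y'.hom := isoSpec_hom_SpecMap _
  have hr' : Spec.map r = Y'.left.isoSpec.inv ≫ Y'.hom := by rw [Iso.eq_inv_comp, hr]
  haveI : IsFinite (Spec.map r) := by rw [hr']; infer_instance
  haveI : Etale (Spec.map r) := by rw [hr']; infer_instance
  haveI : Module.Finite B C := RingHom.finite_algebraMap.1 ((IsFinite.SpecMap_iff r).1 ‹IsFinite (Spec.map r)›)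
  haveI : Algebra.Etale B C :=
    RingHom.etale_algebraMap.1 ((HasRingHomProperty.Spec_iff (P := @Etale)).1 ‹Etale (Spec.map r)›)
  let σ : V.left ⟶ Spec (CommRingCat.of A) := V.hom ≫ U.ι
  haveI : NoetherianSpace (Spec (CommRingCat.of A)) := inferInstanceAs (NoetherianSpace (PrimeSpectrum A))
  haveI : QuasiCompact U.ι := inferInstance
  haveI : QuasiCompact σ := inferInstance
  haveI : QuasiSeparated σ := inferInstance
  let m := (pullbackSymmetry g σ).hom ≫ (pullbackRightPullbackFstIso U.ι g V.hom).inv
  let k : pullback g σ ⟶ Spec (CommRingCat.of C) :=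
    m ≫ e.inv.left ≫ pullback.fst Y'.hom (pullback.snd U.ι g) ≫ Y'.left.isoSpec.hom
  haveI : IsIso e.inv.left :=
    ((MorphismProperty.Over.forget FEt.prop.{u} ⊤ _ ⋙ Over.forget _).mapIso e.symm).isIso_hom
  haveI : IsIso m := inferInstance
  haveI : IsOpenImmersion k := inferInstance
  have hw : e.inv.left ≫ pullback.snd Y'.hom (pullback.snd U.ι g) = pullback.snd V.hom (pullback.fst U.ι g) :=
    Over.w e.inv.hom
  have hk : k ≫ Spec.map (CommRingCat.ofHom (algebraMap B C)) = pullback.fst g σ := by
    show (m ≫ e.inv.left ≫ pullback.fst Y'.hom (pullback.snd U.ι g) ≫ Y'.left.isoSpec.hom) ≫ Spec.map r = _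
    simp only [Category.assoc, hr, pullback.condition, reassoc_of% hw]
    simp only [m, Category.assoc, pullbackRightPullbackFstIso_inv_snd_snd]
    exact pullbackSymmetry_hom_comp_snd g σ
  have hrange : ∀ f ∈ IsLocalRing.maximalIdeal A,
      ((PrimeSpectrum.basicOpen (algebraMap B C (algebraMap A B f))) : Set (PrimeSpectrum C)) ⊆ Set.range k := by
    intro f hf y hy
    have hU : g (Spec.map r y) ∈ U := fun hcl => hy (show algebraMap A B f ∈
      PrimeSpectrum.asIdeal (Spec.map r y) from
        (show (g (Spec.map r y) : PrimeSpectrum A).asIdeal = IsLocalRing.maximalIdeal A from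
          congrArg PrimeSpectrum.asIdeal hcl).ge hf)
    have hy1 : Y'.hom (Y'.left.isoSpec.inv y) ∈ Set.range (pullback.snd U.ι g) := by
      rw [IsOpenImmersion.range_pullbackSnd]
      refine ⟨⟨g (Y'.hom (Y'.left.isoSpec.inv y)), ?_⟩, rfl⟩
      have h1 : Y'.hom (Y'.left.isoSpec.inv y) = Spec.map r y := congr($(hr').base y).symm
      exact h1 ▸ hU
    obtain ⟨z, hz⟩ : Y'.left.isoSpec.inv y ∈ Set.range (pullback.fst Y'.hom (pullback.snd U.ι g)) := by
      rw [IsOpenImmersion.range_pullbackFst]; exact hy1
    obtain ⟨w, hw'⟩ := (m ≫ e.inv.left).surjective z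
    refine ⟨w, ?_⟩
    show ((m ≫ e.inv.left) ≫ pullback.fst Y'.hom (pullback.snd U.ι g) ≫ Y'.left.isoSpec.hom) w = y
    rw [Scheme.Hom.comp_apply, Scheme.Hom.comp_apply, hw']
    exact (congrArg Y'.left.isoSpec.hom hz).trans congr($(Y'.left.isoSpec.inv_hom_id).base y)
  have haff : ∀ f ∈ IsLocalRing.maximalIdeal A, IsAffineOpen (σ ⁻¹ᵁ PrimeSpectrum.basicOpen f) := by
    intro f hf
    have hsub : PrimeSpectrum.basicOpen f ≤ U := fun x hx hcl => hx (show f ∈ PrimeSpectrum.asIdeal x from
      (congrArg PrimeSpectrum.asIdeal hcl).symm ▸ hf)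
    rw [Scheme.Hom.comp_preimage]
    refine IsAffineOpen.preimage ?_ V.hom
    refine IsAffineOpen.preimage_of_isOpenImmersion ((basicOpen_eq_of_affine (R := CommRingCat.of A) f) ▸
      (isAffineOpen_top _).basicOpen _) U.ι ?_
    rw [Scheme.Opens.opensRange_ι]
    exact hsub
  haveI : Module.FaithfullyFlat A B := CplLim.faithfullyFlat_completion A
  obtain ⟨E, _, _, _, _, h, hσ, hiso⟩ := exists_glue (X := V.left) (IsLocalRing.maximalIdeal A).fg_of_isNoetherianRing
    (bijective_quotientMap_completion A) C σ haff k hk hrange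
  let a := Spec.map (CommRingCat.ofHom (algebraMap A E))
  have ha : IsFinite a ∧ Etale a := ⟨(IsFinite.SpecMap_iff _).2 (RingHom.finite_algebraMap.2 inferInstance),
    (HasRingHomProperty.Spec_iff (P := @Etale)).2 (RingHom.etale_algebraMap.2 inferInstance)⟩
  let l : V.left ⟶ pullback a U.ι := pullback.lift h V.hom hσ
  let W : {f : A // f ∈ IsLocalRing.maximalIdeal A} → (pullback a U.ι).Opens := fun f =>
    pullback.fst a U.ι ⁻¹ᵁ PrimeSpectrum.basicOpen (algebraMap A E f.1)
  haveI : IsIso l := by
    refine (IsZariskiLocalAtTarget.iff_of_iSup_eq_top (P := MorphismProperty.isomorphisms Scheme.{u}) W ?_).2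
      fun f => ?_
    · refine eq_top_iff.2 fun z _ => ?_
      have hU : a (pullback.fst a U.ι z) ∈ U := by
        rw [← Scheme.Hom.comp_apply, pullback.condition, Scheme.Hom.comp_apply]
        exact (pullback.snd a U.ι z).2
      obtain ⟨f, hf, hfn⟩ : ∃ f ∈ IsLocalRing.maximalIdeal A, f ∉ (a (pullback.fst a U.ι z) : PrimeSpectrum A).asIdeal := by
        by_contra hne
        push Not at hne
        exact hU (PrimeSpectrum.ext (le_antisymm (IsLocalRing.le_maximalIdeal (PrimeSpectrum.isPrime _).ne_top) hne))
      exact Opens.mem_iSup.2 ⟨⟨f, hf⟩, hfn⟩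
    · show IsIso (l ∣_ W f)
      haveI : IsIso (pullback.fst a U.ι ∣_ PrimeSpectrum.basicOpen (algebraMap A E f.1)) := by
        refine isIso_morphismRestrict_of_subset_range _ _ fun y hy => ?_
        rw [IsOpenImmersion.range_pullbackFst, Scheme.Opens.opensRange_ι]
        exact fun hcl => hy (show f.1 ∈ PrimeSpectrum.asIdeal (a y) from
          (congrArg PrimeSpectrum.asIdeal hcl).symm ▸ f.2)
      have h1 : IsIso (h ∣_ PrimeSpectrum.basicOpen (algebraMap A E f.1)) := hiso f.1 f.2
      have e1 : h = l ≫ pullback.fst a U.ι := (pullback.lift_fst _ _ _).symm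
      rw [e1, morphismRestrict_comp] at h1
      exact (isIso_comp_right_iff _ _).1 h1
  exact ⟨MorphismProperty.Over.mk ⊤ a ha,
    ⟨(MorphismProperty.Over.isoMk (asIso l).symm (by
      show inv l ≫ V.hom = pullback.snd a U.ι
      rw [IsIso.inv_comp_eq]; exact (pullback.lift_snd _ _ _).symm))⟩⟩

/-- Purity of the completion makes restriction to the punctured part of the completion essentially surjective. -/
theorem essSurj_pullback_snd (h : FEt.PurityHolds (AdicCompletion (IsLocalRing.maximalIdeal A) A)) :
    (FEt.restrict (pullback.snd (FEt.puncturedSpec A).ι (Spec.map (CommRingCat.ofHom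
      (algebraMap A (AdicCompletion (IsLocalRing.maximalIdeal A) A)))))).EssSurj := by
  let B := AdicCompletion (IsLocalRing.maximalIdeal A) A
  let U := FEt.puncturedSpec A
  let g := Spec.map (CommRingCat.ofHom (algebraMap A B))
  let Q := g ⁻¹ᵁ U
  have hpre : Q = FEt.puncturedSpec B := FormAlg.preimage_punctured _ (by
    rw [AdicCompletion.maximalIdeal_eq_map]; exact Ideal.le_radical)
  haveI : (FEt.restrict Q.ι).EssSurj := by rw [hpre]; exact h
  let a : (Q : Scheme.{u}) ≅ pullback U.ι g := (isPullback_morphismRestrict g U).isoPullback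
  haveI : (FEt.restrict (pullback.snd U.ι g)).EssSurj := by
    exact LefEssSurj.essSurj_of_square (pullback.snd U.ι g) Q.ι a.hom (𝟙 _)
      (by rw [Category.comp_id]; exact (isPullback_morphismRestrict g U).isoPullback_hom_snd)
  infer_instance

end Groth.Agent.VdimThree
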