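import Groth.Agent.VdimThree.Sch
import Groth.Agent.W7Alg.Closed

/-!
Sections: flat base change with naturality, torsion kernels and cokernels along closed immersions.
-/

set_option autoImplicit false
set_option maxHeartbeats 800000
set_option backward.isDefEq.respectTransparency false
set_option linter.style.haveILetI false

universe u

open CategoryTheory CategoryTheory.Limits AlgebraicGeometry Opposite TopologicalSpace TensorProduct

noncomputable section

namespace Groth.Agent.VdimThree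

variable {A S : Type u} [CommRing A] [CommRing S] [Algebra A S]

/-- The algebra of global sections of a scheme over an affine base. -/
@[reducible] def secAlg {X : Scheme.{u}} (σ : X ⟶ Spec (CommRingCat.of A)) : Algebra A Γ(X, ⊤) :=
  ((Scheme.ΓSpecIso (CommRingCat.of A)).inv ≫ σ.appTop).hom.toAlgebra

/-- Flat base change of global sections. -/
theorem exists_sections_equiv [Module.Flat A S] {X : Scheme.{u}} [CompactSpace X] [QuasiSeparatedSpace X]
    (σ : X ⟶ Spec (CommRingCat.of A)) :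
    letI := secAlg σ
    ∃ θ : S ⊗[A] Γ(X, ⊤) →+* Γ(pullback (Spec.map (CommRingCat.ofHom (algebraMap A S))) σ, ⊤),
      Function.Bijective θ ∧ ∀ (s : S) (n : Γ(X, ⊤)), θ (s ⊗ₜ[A] n) =
        (pullback.fst (Spec.map (CommRingCat.ofHom (algebraMap A S))) σ).appTop ((Scheme.ΓSpecIso (CommRingCat.of S)).inv s) *
        (pullback.snd (Spec.map (CommRingCat.ofHom (algebraMap A S))) σ).appTop n := by
  letI := secAlg σ
  let g := Spec.map (CommRingCat.ofHom (algebraMap A S))
  haveI : Flat g := Flat.SpecMap_iff.2 (RingHom.flat_algebraMap_iff.2 inferInstance)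
  let cN : CommRingCat.of A ⟶ Γ(X, ⊤) := (Scheme.ΓSpecIso (CommRingCat.of A)).inv ≫ σ.appTop
  have Hc : IsPullback (pullback.snd g σ) (pullback.fst g σ) σ g := (IsPullback.of_hasPullback g σ).flip
  have hpo0 : IsPushout g.appTop σ.appTop (pullback.fst g σ).appTop (pullback.snd g σ).appTop := by
    have h := (isIso_pushoutSection_iff Hc (US := ⊤) (UT := ⊤) (UX := ⊤) (UY := ⊤) (by simp) (by simp)
      (by simp)).mp (isIso_pushoutSection_of_isQuasiSeparated_of_flat_right Hc (by simp) (by simp)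
        (by simp) (isAffineOpen_top _) (isAffineOpen_top _) isCompact_univ isQuasiSeparated_univ)
    have hle : ∀ {X Y : Scheme.{u}} (f : X ⟶ Y) (e : (⊤ : X.Opens) ≤ f ⁻¹ᵁ ⊤),
        f.appLE ⊤ ⊤ e = f.appTop := fun f e ↦ by simp [Scheme.Hom.appLE]
    simpa only [hle] using h.flip
  have hpo : IsPushout (CommRingCat.ofHom (algebraMap A S)) cN
      ((Scheme.ΓSpecIso (CommRingCat.of S)).inv ≫ (pullback.fst g σ).appTop) (pullback.snd g σ).appTop := by
    refine hpo0.of_iso (Scheme.ΓSpecIso _) (Scheme.ΓSpecIso _) (Iso.refl _) (Iso.refl _) ?_ ?_ ?_ ?_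
    · exact Scheme.ΓSpecIso_naturality _
    · simp [cN]
    · simp
    · simp
  have hte := CommRingCat.isPushout_tensorProduct A S Γ(X, ⊤)
  rw [show CommRingCat.ofHom (algebraMap A Γ(X, ⊤)) = cN from rfl] at hte
  refine ⟨(hte.isoIsPushout _ _ hpo).hom.hom, ConcreteCategory.bijective_of_isIso (hte.isoIsPushout _ _ hpo).hom,
    fun s n => ?_⟩
  have h1 := congr($(IsPushout.inl_isoIsPushout_hom _ _ hte hpo) s)
  have h2 := congr($(IsPushout.inr_isoIsPushout_hom _ _ hte hpo) n)
  simp only [CommRingCat.hom_comp, RingHom.comp_apply] at h1 h2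
  rw [← h1, ← h2, ← map_mul]
  congr 1
  simp

/-- Sections agree up to powers of the equation with those of a closed subscheme of the target. -/
theorem coker_torsion_of_isClosedImmersion {X Y : Scheme.{u}} [CompactSpace X] [QuasiSeparatedSpace X] [CompactSpace Y]
    [QuasiSeparatedSpace Y] (k : X ⟶ Y) (c : Γ(Y, ⊤)) (hY : IsAffineOpen (Y.basicOpen c))
    [IsClosedImmersion (k ∣_ Y.basicOpen c)] (y : Γ(X, ⊤)) :
    ∃ (n : ℕ) (x : Γ(Y, ⊤)), k.appTop x = k.appTop c ^ n * y := by
  haveI : IsAffine (Y.basicOpen c : Scheme.{u}) := hY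
  have hsurj : Function.Surjective (k.app (Y.basicOpen c)).hom := by
    have h := (IsClosedImmersion.isAffine_surjective_of_isAffine (k ∣_ Y.basicOpen c)).2
    rw [Scheme.Hom.appTop, morphismRestrict_app] at h
    have h' : Function.Surjective (k.app ((Y.basicOpen c).ι ''ᵁ ⊤)).hom := fun z => by
      obtain ⟨x, hx⟩ := h ((X.presheaf.map _).hom z)
      change (X.presheaf.map _).hom ((k.app _).hom x) = _ at hx
      exact ⟨x, (ConcreteCategory.bijective_of_isIso (X.presheaf.map _)).1 hx⟩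
    rw [Scheme.Opens.ι_image_top] at h'
    exact h'
  obtain ⟨w, hw⟩ := hsurj (X.presheaf.map (homOfLE le_top : k ⁻¹ᵁ Y.basicOpen c ⟶ ⊤).op y)
  obtain ⟨n, x, hx⟩ := exists_pow_mul_eq_res c _ rfl w
  have h1 := congr((k.app (Y.basicOpen c)).hom $hx)
  rw [map_mul, map_pow, app_res, app_res, hw, ← map_pow, ← map_mul, ← sub_eq_zero, ← map_sub] at h1
  obtain ⟨m, hm⟩ := exists_pow_eq_zero_of_res (k.appTop c) _ _ (preimage_basicOpen' k c) h1
  refine ⟨m + n, c ^ m * x, ?_⟩
  rw [mul_sub, sub_eq_zero] at hm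
  rw [map_mul, map_pow, hm, pow_add, mul_assoc]

/-- A function vanishing on the zero scheme of `f` is a multiple of `f` up to powers of `g`. -/
theorem exists_pow_mul_eq_mul_of_restrict {X X0 : Scheme.{u}} [CompactSpace X] [QuasiSeparatedSpace X] (f g : A)
    (σ : X ⟶ Spec (CommRingCat.of A)) (i : X0 ⟶ X) (σ0 : X0 ⟶ Spec (CommRingCat.of (A ⧸ Ideal.span {f})))
    (hc : IsPullback i σ0 σ (Spec.map (CommRingCat.ofHom (Ideal.Quotient.mk (Ideal.span {f})))))
    (hg : IsAffineOpen (σ ⁻¹ᵁ PrimeSpectrum.basicOpen g)) (x : Γ(X, ⊤)) (hx : i.appTop x = 0) :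
    letI := secAlg σ
    ∃ (n : ℕ) (y : Γ(X, ⊤)), g ^ n • x = f • y := by
  letI := secAlg σ
  let s := algebraMap A Γ(X, ⊤) g
  let V : X.Opens := σ ⁻¹ᵁ PrimeSpectrum.basicOpen g
  have hV : V = X.basicOpen s := by
    show σ ⁻¹ᵁ _ = X.basicOpen (σ.appTop ((Scheme.ΓSpecIso (CommRingCat.of A)).inv g))
    exact (congrArg (fun U => σ ⁻¹ᵁ U) (basicOpen_eq_of_affine (R := CommRingCat.of A) g).symm).trans
      (Scheme.preimage_basicOpen σ _)
  let r : Γ(X, ⊤) →+* Γ(X, V) := (X.presheaf.map (homOfLE le_top : V ⟶ ⊤).op).hom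
  have hker : r x ∈ RingHom.ker (i.app V).hom := by
    rw [RingHom.mem_ker]
    have h := congr($(i.naturality (homOfLE le_top : V ⟶ ⊤).op) x)
    simp only [CommRingCat.hom_comp, RingHom.comp_apply] at h
    exact h.trans ((congrArg _ hx).trans (map_zero _))
  letI : X.Over (Spec (CommRingCat.of A)) := ⟨σ⟩
  rw [W7Alg.ker_app_baseChange _ Ideal.Quotient.mk_surjective hc ⟨V, hg⟩, Ideal.mk_ker, Ideal.map_span,
    Set.image_singleton, Ideal.mem_span_singleton'] at hker
  obtain ⟨z, hz⟩ := hker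
  obtain ⟨n, y, hy⟩ := exists_pow_mul_eq_res s V hV z
  have hsec : W7Cech.secRing A V f = r (algebraMap A Γ(X, ⊤) f) := rfl
  have h1 : r (s ^ n * x - algebraMap A Γ(X, ⊤) f * y) = 0 := by
    rw [map_sub, map_mul, map_mul, map_pow, ← hz, show r y = _ from hy, hsec]
    ring
  obtain ⟨m, hm⟩ := exists_pow_eq_zero_of_res s _ V hV h1
  refine ⟨m + n, s ^ m * y, ?_⟩
  rw [Algebra.smul_def, Algebra.smul_def, map_pow]
  change s ^ (m + n) * x = _
  rw [mul_sub, sub_eq_zero] at hm
  rw [pow_add, mul_assoc, hm]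
  ring

end Groth.Agent.VdimThree
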