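import Groth.Agent.VdimThree.Idem
import Groth.Agent.VdimThree.Sections
import Groth.Agent.VdimThree.ClopenFF
import Groth.Agent.Purity.CompFF
import Groth.Agent.LefEssSurj.PunctClopen
import Groth.Agent.FinFibImage.Main
import Groth.Agent.FibIdem.Main
import Groth.Agent.CplLim.Basic
import Groth.Prelude.Def_FEt

/-!
Full faithfulness of restriction to `f = 0` on the punctured spectrum descends from the completion.
-/

set_option autoImplicit false
set_option maxHeartbeats 1000000
set_option backward.isDefEq.respectTransparency false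
set_option backward.isDefEq.respectTransparency.types false
set_option linter.style.haveILetI false

universe u

open CategoryTheory CategoryTheory.Limits AlgebraicGeometry TopologicalSpace TensorProduct

noncomputable section

namespace Groth.Agent.VdimThree

variable {A : Type u} [CommRing A] [IsNoetherianRing A] [IsLocalRing A]

theorem basicOpen_le_punctured {g : A} (hg : g ∈ IsLocalRing.maximalIdeal A) :
    PrimeSpectrum.basicOpen g ≤ FEt.puncturedSpec A := fun x hx hcl =>
  hx (show g ∈ PrimeSpectrum.asIdeal x from (congrArg PrimeSpectrum.asIdeal hcl).symm ▸ hg)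

theorem isAffineOpen_preimage_basicOpen {Z : Scheme.{u}} (π : Z ⟶ (FEt.puncturedSpec A : Scheme.{u})) [IsFinite π]
    {g : A} (hg : g ∈ IsLocalRing.maximalIdeal A) :
    IsAffineOpen ((π ≫ (FEt.puncturedSpec A).ι) ⁻¹ᵁ PrimeSpectrum.basicOpen g) := by
  rw [Scheme.Hom.comp_preimage]
  refine IsAffineOpen.preimage ?_ π
  refine IsAffineOpen.preimage_of_isOpenImmersion ((basicOpen_eq_of_affine (R := CommRingCat.of A) g) ▸
    (isAffineOpen_top _).basicOpen _) (FEt.puncturedSpec A).ι ?_
  rw [Scheme.Opens.opensRange_ι]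
  exact basicOpen_le_punctured hg

/-- A finite subalgebra of sections with torsion cokernel. -/
theorem exists_finite_subalgebra {Z : Scheme.{u}} (π : Z ⟶ (FEt.puncturedSpec A : Scheme.{u})) [IsFinite π]
    [CompactSpace Z] [QuasiSeparatedSpace Z] :
    letI := secAlg (π ≫ (FEt.puncturedSpec A).ι)
    ∃ N0 : Subalgebra A Γ(Z, ⊤), Module.Finite A N0 ∧
      ∀ b : Γ(Z, ⊤), ∀ g ∈ IsLocalRing.maximalIdeal A, ∃ n : ℕ, g ^ n • b ∈ N0 := by
  letI := secAlg (π ≫ (FEt.puncturedSpec A).ι)
  let P := FEt.puncturedSpec A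
  obtain ⟨C, _, _, _, j, hj, hjπ⟩ := LefEssSurj.exists_finite_model π
  haveI := hj
  let τ := Spec.map (CommRingCat.ofHom (algebraMap A C))
  let ψ : C →+* Γ(Z, ⊤) := ((Scheme.ΓSpecIso (CommRingCat.of C)).inv ≫ j.appTop).hom
  have hψa : ∀ a : A, ψ (algebraMap A C a) = algebraMap A Γ(Z, ⊤) a := fun a => by
    show j.appTop ((Scheme.ΓSpecIso (CommRingCat.of C)).inv (algebraMap A C a)) =
      (π ≫ P.ι).appTop ((Scheme.ΓSpecIso (CommRingCat.of A)).inv a)
    rw [← hjπ, Scheme.Hom.comp_appTop]
    exact congr(j.appTop.hom $(congr($(Scheme.ΓSpecIso_inv_naturality (CommRingCat.ofHom (algebraMap A C))) a)))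
  let ψa : C →ₐ[A] Γ(Z, ⊤) := { toRingHom := ψ, commutes' := hψa }
  refine ⟨ψa.range, Module.Finite.of_surjective ψa.rangeRestrict.toLinearMap ψa.rangeRestrict_surjective,
    fun b g hg => ?_⟩
  let c := (Scheme.ΓSpecIso (CommRingCat.of C)).inv (algebraMap A C g)
  have hD : (Spec (CommRingCat.of C)).basicOpen c = PrimeSpectrum.basicOpen (algebraMap A C g) := basicOpen_eq_of_affine _
  have hDle : (Spec (CommRingCat.of C)).basicOpen c ≤ τ ⁻¹ᵁ P := by
    rw [hD]
    exact fun y hy => basicOpen_le_punctured hg (show τ y ∈ PrimeSpectrum.basicOpen g from hy)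
  haveI : IsFinite τ := (IsFinite.SpecMap_iff (f := CommRingCat.ofHom (algebraMap A C))).2
    (RingHom.finite_algebraMap.2 inferInstance)
  let jU := IsOpenImmersion.lift (τ ⁻¹ᵁ P).ι j (by
    rintro _ ⟨z, rfl⟩
    rw [Scheme.Opens.range_ι]
    show τ (j z) ∈ P
    rw [← Scheme.Hom.comp_apply, hjπ]
    exact (π z).2)
  have hjU : jU ≫ (τ ⁻¹ᵁ P).ι = j := IsOpenImmersion.lift_fac _ _ _
  have hjUπ : jU ≫ (τ ∣_ P) = π := by
    rw [← cancel_mono P.ι, Category.assoc, morphismRestrict_ι, reassoc_of% hjU, hjπ]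
  haveI : IsFinite (τ ∣_ P) := MorphismProperty.of_isPullback (isPullback_morphismRestrict τ P).flip inferInstance
  haveI : IsFinite (jU ≫ (τ ∣_ P)) := by rw [hjUπ]; infer_instance
  haveI : IsFinite jU := IsFinite.of_comp jU (τ ∣_ P)
  haveI : IsClosedImmersion (j ∣_ (Spec (CommRingCat.of C)).basicOpen c) := by
    refine IsClosedImmersion.of_isPreimmersion _ ?_
    have : Set.range (j ∣_ (Spec (CommRingCat.of C)).basicOpen c) =
        ((Spec (CommRingCat.of C)).homOfLE hDle) ⁻¹' Set.range jU := by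
      ext y
      constructor
      · rintro ⟨z, rfl⟩
        refine ⟨(j ⁻¹ᵁ _).ι z, (τ ⁻¹ᵁ P).ι.isOpenEmbedding.injective ?_⟩
        rw [← Scheme.Hom.comp_apply, ← Scheme.Hom.comp_apply, hjU]
        exact (morphismRestrict_base_coe j _ z).symm.trans
          congr($(Scheme.homOfLE_ι _ hDle) ((j ∣_ (Spec (CommRingCat.of C)).basicOpen c) z)).symm
      · rintro ⟨z, hz⟩
        have hz' : j z = y.1 := by
          rw [← hjU, Scheme.Hom.comp_apply, hz, ← Scheme.Hom.comp_apply, Scheme.homOfLE_ι]
          rfl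
        exact ⟨⟨z, show j z ∈ _ from hz'.symm ▸ y.2⟩, Subtype.ext (by rw [morphismRestrict_base_coe]; exact hz')⟩
    rw [this]
    exact jU.isClosedMap.isClosed_range.preimage (Scheme.Hom.continuous _)
  obtain ⟨n, x, hx⟩ := coker_torsion_of_isClosedImmersion j c ((isAffineOpen_top _).basicOpen c) b
  obtain ⟨x, rfl⟩ := (ConcreteCategory.bijective_of_isIso (Scheme.ΓSpecIso (CommRingCat.of C)).inv).2 x
  refine ⟨n, x, ?_⟩
  show ψ x = g ^ n • b
  rw [Algebra.smul_def, map_pow, ← hψa]
  exact hx

/-- Clopen subsets over `f = 0` descend from the completion. -/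
theorem full_faithful_of_completion (f : A) [HenselianRing A (Ideal.span {f})]
    (h : (FEt.restrict (pullback.fst (pullback.fst (FEt.puncturedSpec A).ι
        (Spec.map (CommRingCat.ofHom (algebraMap A (AdicCompletion (IsLocalRing.maximalIdeal A) A)))))
      (pullback.fst (FEt.puncturedSpec A).ι (Spec.map (CommRingCat.ofHom (Ideal.Quotient.mk (Ideal.span {f}))))))).Full ∧
      (FEt.restrict (pullback.fst (pullback.fst (FEt.puncturedSpec A).ι
        (Spec.map (CommRingCat.ofHom (algebraMap A (AdicCompletion (IsLocalRing.maximalIdeal A) A)))))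
      (pullback.fst (FEt.puncturedSpec A).ι (Spec.map (CommRingCat.ofHom (Ideal.Quotient.mk (Ideal.span {f}))))))).Faithful) :
    (FEt.restrict (pullback.fst (FEt.puncturedSpec A).ι
        (Spec.map (CommRingCat.ofHom (Ideal.Quotient.mk (Ideal.span {f})))))).Full ∧
      (FEt.restrict (pullback.fst (FEt.puncturedSpec A).ι
        (Spec.map (CommRingCat.ofHom (Ideal.Quotient.mk (Ideal.span {f})))))).Faithful := by
  let B := AdicCompletion (IsLocalRing.maximalIdeal A) A
  let P := FEt.puncturedSpec A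
  let b := Spec.map (CommRingCat.ofHom (algebraMap A B))
  let s := Spec.map (CommRingCat.ofHom (Ideal.Quotient.mk (Ideal.span {f})))
  haveI : IsClosedImmersion s := IsClosedImmersion.spec_of_surjective _ Ideal.Quotient.mk_surjective
  let u := pullback.fst P.ι s
  let fP := pullback.fst P.ι b
  haveI : IsClosedImmersion u := MorphismProperty.pullback_fst (P := @IsClosedImmersion) _ _ inferInstance
  haveI := h.1; haveI := h.2
  haveI : Module.FaithfullyFlat A B := CplLim.faithfullyFlat_completion A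
  haveI : Surjective b := ⟨fun p => PrimeSpectrum.comap_surjective_of_faithfullyFlat (A := A) (B := B) p⟩
  refine Purity.restrict_full_faithful_of_clopen _ fun Z π hπ hπ' C hC => ?_
  haveI := hπ; haveI := hπ'
  let Z' : FEt.Cat (pullback P.ι b) := (FEt.restrict fP).obj (MorphismProperty.Over.mk ⊤ π ⟨hπ, hπ'⟩)
  let r : pullback Z'.hom (pullback.fst fP u) ⟶ pullback π u :=
    pullback.lift (pullback.fst _ _ ≫ pullback.fst π fP) (pullback.snd _ _ ≫ pullback.snd fP u) (by
      rw [Category.assoc, Category.assoc, pullback.condition, ← pullback.condition (f := fP) (g := u),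
        ← Category.assoc, ← Category.assoc]
      congr 1
      exact pullback.condition)
  obtain ⟨Wh, ⟨hWh, hWhC⟩, huniq⟩ := existsUnique_clopen_of_full_faithful (pullback.fst fP u) Z'
    (r ⁻¹' C) (hC.preimage r.continuous)
  let σ : Z ⟶ Spec (CommRingCat.of A) := π ≫ P.ι
  haveI : NoetherianSpace (Spec (CommRingCat.of A)) := inferInstanceAs (NoetherianSpace (PrimeSpectrum A))
  haveI : QuasiCompact P.ι := inferInstance
  haveI : QuasiCompact σ := inferInstance
  haveI : QuasiSeparated σ := inferInstance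
  haveI : CompactSpace Z := QuasiCompact.compactSpace_of_compactSpace σ
  haveI : QuasiSeparatedSpace Z := quasiSeparatedSpace_of_quasiSeparated σ
  let m : pullback b σ ⟶ pullback π fP := (pullbackSymmetry b σ).hom ≫ (pullbackRightPullbackFstIso P.ι b π).inv
  have hm : m ≫ pullback.fst π fP = pullback.snd b σ := by
    simp only [m, Category.assoc]
    rw [show (pullbackRightPullbackFstIso P.ι b π).inv ≫ pullback.fst π fP = pullback.fst σ b from
      pullbackRightPullbackFstIso_inv_fst P.ι b π]
    exact pullbackSymmetry_hom_comp_fst b σ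
  let Z0 := pullback π u
  let c : Z0 ⟶ Z := pullback.fst π u
  let σ0 : Z0 ⟶ Spec (CommRingCat.of A) := c ≫ σ
  haveI : CompactSpace Z0 := c.isClosedEmbedding.compactSpace
  haveI : QuasiSeparated σ0 := inferInstance
  haveI : QuasiCompact σ0 := inferInstance
  haveI : QuasiSeparatedSpace Z0 := quasiSeparatedSpace_of_quasiSeparated σ0
  let th : pullback b σ0 ⟶ pullback b σ := pullback.lift (pullback.fst b σ0) (pullback.snd b σ0 ≫ c)
    (by rw [Category.assoc]; exact pullback.condition)
  have hth : th ⁻¹' (m ⁻¹' Wh) = pullback.snd b σ0 ⁻¹' C := by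
    let v : pullback b σ0 ⟶ pullback Z'.hom (pullback.fst fP u) :=
      pullback.lift (th ≫ m) (pullback.lift ((th ≫ m) ≫ Z'.hom) (pullback.snd b σ0 ≫ pullback.snd π u) (by
        show ((th ≫ m) ≫ pullback.snd π fP) ≫ fP = _
        rw [Category.assoc (th ≫ m), ← pullback.condition, Category.assoc th, reassoc_of% hm,
          pullback.lift_snd_assoc, Category.assoc, pullback.condition, Category.assoc]))
        (pullback.lift_fst _ _ _).symm
    have hv : v ≫ r = pullback.snd b σ0 := by
      apply pullback.hom_ext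
      · rw [Category.assoc, pullback.lift_fst, pullback.lift_fst_assoc, Category.assoc, hm, pullback.lift_snd]
      · rw [Category.assoc, pullback.lift_snd, pullback.lift_snd_assoc, pullback.lift_snd]
    have hv1 : v ≫ pullback.fst Z'.hom (pullback.fst fP u) = th ≫ m := pullback.lift_fst _ _ _
    ext w
    calc w ∈ th ⁻¹' (m ⁻¹' Wh) ↔ v w ∈ pullback.fst Z'.hom (pullback.fst fP u) ⁻¹' Wh := by
          show (th ≫ m) w ∈ Wh ↔ (v ≫ pullback.fst Z'.hom (pullback.fst fP u)) w ∈ Wh
          rw [hv1]
          exact Iff.rfl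
      _ ↔ (v ≫ r) w ∈ C := by rw [hWhC]; rfl
      _ ↔ w ∈ pullback.snd b σ0 ⁻¹' C := by rw [hv]; rfl
  letI := secAlg σ
  letI := secAlg σ0
  obtain ⟨θ, hθ, hθt⟩ := exists_sections_equiv (S := B) σ
  obtain ⟨θ0, hθ0, hθ0t⟩ := exists_sections_equiv (S := B) σ0
  haveI : CompactSpace ↥(pullback b σ0) := QuasiCompact.compactSpace_of_compactSpace (pullback.fst b σ0)
  let ρ : Γ(Z, ⊤) →ₐ[A] Γ(Z0, ⊤) :=
    { toRingHom := c.appTop.hom
      commutes' := fun a => by
        show c.appTop (σ.appTop _) = σ0.appTop _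
        rw [Scheme.Hom.comp_appTop]; rfl }
  have hnat : ∀ z, θ0 (Algebra.TensorProduct.map (AlgHom.id B B) ρ z) = th.appTop (θ z) := fun z => by
    induction z using TensorProduct.induction_on with
    | zero => simp
    | tmul x n =>
      rw [Algebra.TensorProduct.map_tmul, hθt, hθ0t, map_mul]
      congr 1
      · exact congr($(congrArg Scheme.Hom.appTop (pullback.lift_fst (pullback.fst b σ0) (pullback.snd b σ0 ≫ c)
          (by rw [Category.assoc]; exact pullback.condition))).hom ((Scheme.ΓSpecIso (CommRingCat.of B)).inv x)).symm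
      · exact congr($(congrArg Scheme.Hom.appTop (pullback.lift_snd (pullback.fst b σ0) (pullback.snd b σ0 ≫ c)
          (by rw [Category.assoc]; exact pullback.condition))).hom n).symm
    | add a b ha hb => simp only [map_add, ha, hb]
  obtain ⟨eh, heh, hehW⟩ := FinFibImage.exists_idem_of_isClopen _ (hWh.preimage m.continuous)
  obtain ⟨eC, heC, heCC⟩ := FinFibImage.exists_idem_of_isClopen _ hC
  obtain ⟨eh', rfl⟩ := hθ.2 eh
  have heh' : IsIdempotentElem eh' := hθ.1 (by rw [map_mul]; exact heh.eq)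
  have hcomp : Algebra.TensorProduct.map (AlgHom.id B B) ρ eh' = (1 : B) ⊗ₜ[A] eC := by
    apply hθ0.1
    rw [hnat, hθ0t, map_one, map_one, one_mul]
    refine FibIdem.eq_of_basicOpen_eq (heh.map _) (heC.map _) (Opens.ext ?_)
    rw [← Scheme.preimage_basicOpen_top, ← Scheme.preimage_basicOpen_top, Scheme.Hom.coe_preimage,
      Scheme.Hom.coe_preimage, hehW, heCC]
    exact hth
  obtain ⟨N0, hN0f, hN0⟩ := exists_finite_subalgebra π
  haveI := hN0f
  have hsq : IsPullback c (pullback.snd π u ≫ pullback.snd P.ι s) σ s :=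
    ((IsPullback.of_hasPullback π u).flip.paste_horiz (IsPullback.of_hasPullback P.ι s).flip).flip
  obtain ⟨e, he, hρe⟩ := exists_idempotent_descent A B (IsLocalRing.maximalIdeal A)
    (IsLocalRing.maximalIdeal A).fg_of_isNoetherianRing (bijective_quotientMap_completion A) f Γ(Z, ⊤) N0 hN0
    Γ(Z0, ⊤) ρ (by
      show σ0.appTop ((Scheme.ΓSpecIso (CommRingCat.of A)).inv f) = 0
      rw [show σ0 = c ≫ σ from rfl, hsq.w, Scheme.Hom.comp_appTop]
      have h0 : s.appTop ((Scheme.ΓSpecIso (CommRingCat.of A)).inv f) = 0 := by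
        have := congr($(Scheme.ΓSpecIso_inv_naturality (CommRingCat.ofHom (Ideal.Quotient.mk (Ideal.span {f})))) f)
        refine this.symm.trans ?_
        show (Scheme.ΓSpecIso (CommRingCat.of (A ⧸ Ideal.span {f}))).inv (Ideal.Quotient.mk (Ideal.span {f}) f) = 0
        rw [Ideal.Quotient.eq_zero_iff_mem.2 (Ideal.mem_span_singleton_self f), map_zero]
      show (pullback.snd π u ≫ pullback.snd P.ι s).appTop (s.appTop _) = 0
      rw [h0, map_zero])
    (fun x hx g hg => exists_pow_mul_eq_mul_of_restrict f g σ c _ hsq (isAffineOpen_preimage_basicOpen π hg) x hx)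
    eC heC eh' heh' hcomp
  have heW : c ⁻¹' (Z.basicOpen e : Set Z) = C := by
    rw [← heCC, ← hρe]
    exact congrArg (fun U : Z0.Opens => (U : Set Z0)) (Scheme.preimage_basicOpen_top c e)
  have hclW : IsClopen (Z.basicOpen e : Set Z) :=
    ⟨by rw [← isOpen_compl_iff, FibIdem.basicOpen_compl_of_idem he]; exact (Scheme.basicOpen _ _).2,
      (Z.basicOpen e).2⟩
  refine ⟨Z.basicOpen e, ⟨⟨?_, heW⟩, fun W' ⟨hW', hW'C⟩ => ?_⟩⟩
  · exact hclW
  · have hpre : ∀ W : Set Z, IsClopen W → c ⁻¹' W = C → pullback.fst π fP ⁻¹' W = Wh := fun W hW hWC =>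
      huniq _ ⟨hW.preimage (Scheme.Hom.continuous _), by
        rw [← hWC]
        ext w
        show (pullback.fst Z'.hom (pullback.fst fP u) ≫ pullback.fst π fP) w ∈ W ↔ (r ≫ c) w ∈ W
        rw [pullback.lift_fst]⟩
    haveI : Surjective fP := MorphismProperty.pullback_fst (P := @Surjective) _ _ inferInstance
    haveI : Surjective (pullback.fst π fP) := MorphismProperty.pullback_fst (P := @Surjective) _ _ inferInstance
    refine (pullback.fst π fP).surjective.preimage_injective ?_
    exact (hpre W' hW' hW'C).trans (hpre _ hclW heW).symm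

end Groth.Agent.VdimThree
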