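import Groth.Agent.LefEssSurj.PunctDual
import Groth.Agent.LefEssSurj.CI
import Groth.Agent.CMFlat.Localization
import Groth.Agent.CMChain.Basic
import Groth.Agent.CompAffine.Avoid
import Groth.Agent.EGA41FS.LiftUnique
import Groth.Agent.EGA41Cohen.Basic
import Groth.Agent.DualCx.EssFin
import Groth.Agent.S11185
import Groth.Agent.S0247

/-!
Purity for quotients of complete regular local rings of dimension `d` by at most `d - 3` elements: the
generators are changed so that every initial segment is a regular sequence away from the zero locus, and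
purity passes along the resulting chain of hyperplane sections.
-/

set_option autoImplicit false
set_option maxHeartbeats 1000000
set_option backward.isDefEq.respectTransparency false
set_option backward.isDefEq.respectTransparency.types false
set_option linter.style.haveILetI false

universe u

open IsLocalRing RingTheory.Sequence Groth.Agent.FormAlg

noncomputable section

attribute [local instance] HasDerivedCategory.standard

namespace Groth.Agent.VdimThree

variable {S : Type u} [CommRing S] [IsRegularLocalRing S]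

/-- The list is a regular sequence in the local rings at primes containing it and not `I`. -/
def RegOff (I : Ideal S) (l : List S) : Prop :=
  ∀ (P : Ideal S) [P.IsPrime], ¬ I ≤ P → Ideal.ofList l ≤ P →
    IsRegular (Localization.AtPrime P) (l.map (algebraMap S (Localization.AtPrime P)))

theorem map_mem_maximal (P : Ideal S) [P.IsPrime] {l : List S} (hl : Ideal.ofList l ≤ P) :
    ∀ x ∈ l.map (algebraMap S (Localization.AtPrime P)), x ∈ maximalIdeal (Localization.AtPrime P) := by
  intro x hx
  obtain ⟨y, hy, rfl⟩ := List.mem_map.1 hx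
  exact (IsLocalization.AtPrime.to_map_mem_maximal_iff _ P y).2 (hl (Ideal.subset_span hy))

theorem regOff_nil (I : Ideal S) : RegOff I [] := fun P _ _ h =>
  (IsLocalRing.isRegular_iff_isWeaklyRegular_of_subset_maximalIdeal (map_mem_maximal P h)).2
    (IsWeaklyRegular.nil _ _)

/-- Adding an element outside the minimal primes not containing `I` keeps regularity away from `V(I)`. -/
theorem regOff_step {I : Ideal S} {l : List S} (h : RegOff I l) {t : S}
    (ht : ∀ p ∈ (Ideal.ofList l).minimalPrimes, ¬ I ≤ p → t ∉ p) : RegOff I (l ++ [t]) := by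
  intro P _ hIP hlP
  rw [Ideal.ofList_append, sup_le_iff] at hlP
  haveI : IsRegularRing S := SerreReg.isRegularRing_of_isRegularLocalRing S
  haveI : IsRegularLocalRing (Localization.AtPrime P) := IsRegularRing.isRegularLocalRing_localization _
  let R := Localization.AtPrime P
  let m := algebraMap S R
  let lR := l.map m
  have hreg : IsRegular R lR := h P hIP hlP.1
  refine (IsLocalRing.isRegular_iff_isWeaklyRegular_of_subset_maximalIdeal
    (map_mem_maximal P (by rw [Ideal.ofList_append]; exact sup_le hlP.1 hlP.2))).2 ?_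
  rw [List.map_append, isWeaklyRegular_append_iff]
  refine ⟨hreg.toIsWeaklyRegular, ?_⟩
  rw [List.map_cons, List.map_nil, isWeaklyRegular_singleton_iff]
  let J := Ideal.ofList lR
  let B := R ⧸ J
  have hJ : J ≠ ⊤ := ne_top_of_le_ne_top (maximalIdeal.isMaximal R).ne_top
    (Ideal.span_le.2 (map_mem_maximal P hlP.1))
  haveI : Nontrivial B := Ideal.Quotient.nontrivial_iff.2 hJ
  haveI : IsLocalRing B := .of_surjective' (Ideal.Quotient.mk J) Ideal.Quotient.mk_surjective
  haveI : LocCoh.IsCohenMacaulayLocalRing B := by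
    obtain ⟨c, hc⟩ := GrpAct.exists_nat_ringKrullDim B
    have h2 := (ci_facts (Ideal.Quotient.mk J) Ideal.Quotient.mk_surjective lR hreg Ideal.mk_ker).2
    rw [hc] at h2
    exact CMFlat.isCohenMacaulayLocalRing_of_dim_le_depth hc (WithBot.coe_inj.1 h2).le
  have hnz : ∀ b : B, Ideal.Quotient.mk J (m t) * b = 0 → b = 0 := by
    by_contra hne
    push Not at hne
    obtain ⟨b, hb, hb0⟩ := hne
    have hmem : Ideal.Quotient.mk J (m t) ∈ ⋃ p ∈ associatedPrimes B B, (p : Set B) := by
      rw [biUnion_associatedPrimes_eq_zero_divisors]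
      exact ⟨b, hb0, hb⟩
    simp only [Set.mem_iUnion] at hmem
    obtain ⟨Q, hQ, htQ⟩ := hmem
    have hQmin := CMFlat.associatedPrimes_subset_minimalPrimes B hQ
    have h1 : Q.comap (Ideal.Quotient.mk J) ∈ J.minimalPrimes := by
      rw [Ideal.minimalPrimes_eq_comap]; exact ⟨Q, hQmin, rfl⟩
    haveI : Q.IsPrime := hQmin.1.1
    have hJmap : J = (Ideal.ofList l).map m := (Ideal.map_ofList m l).symm
    rw [congrArg Ideal.minimalPrimes hJmap, IsLocalization.minimalPrimes_map P.primeCompl R] at h1
    refine ht _ h1 (fun hle => hIP (hle.trans ?_)) htQ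
    refine le_trans (Ideal.comap_mono (le_maximalIdeal (Ideal.comap_ne_top _ ‹Q.IsPrime›.ne_top))) ?_
    exact (IsLocalization.AtPrime.under_maximalIdeal R P).le
  have hsm : J • (⊤ : Submodule R R) = J := by rw [smul_eq_mul, Ideal.mul_top]
  intro a b hab
  obtain ⟨a, rfl⟩ := Submodule.Quotient.mk_surjective _ a
  obtain ⟨b, rfl⟩ := Submodule.Quotient.mk_surjective _ b
  simp only [← Submodule.Quotient.mk_smul, Submodule.Quotient.eq] at hab ⊢
  rw [hsm] at hab ⊢
  refine Ideal.Quotient.eq_zero_iff_mem.1 (hnz _ ?_)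
  rw [← map_mul, Ideal.Quotient.eq_zero_iff_mem, mul_sub]
  exact hab

/-- The local rings of the quotient at primes not containing `I` are complete intersections. -/
theorem ci_atPrime {I : Ideal S} {l : List S} (h : RegOff I l) [IsLocalRing (S ⧸ Ideal.ofList l)]
    {d : ℕ} (hd : ringKrullDim S = d) (q : Ideal (S ⧸ Ideal.ofList l)) [q.IsPrime]
    (hq : ¬ I ≤ q.comap (Ideal.Quotient.mk _)) :
    ∃ a b : ℕ, a + b + l.length = d ∧
      (LocCoh.depth (Localization.AtPrime q) (Localization.AtPrime q) : WithBot ℕ∞) = (a : WithBot ℕ∞) ∧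
      ringKrullDim ((S ⧸ Ideal.ofList l) ⧸ q) = (b : WithBot ℕ∞) ∧
      (3 ≤ a → FEt.PurityHolds (Localization.AtPrime q)) := by
  let p := Ideal.Quotient.mk (Ideal.ofList l)
  have hp : Function.Surjective p := Ideal.Quotient.mk_surjective
  let q' := q.comap p
  haveI : IsRegularRing S := SerreReg.isRegularRing_of_isRegularLocalRing S
  haveI : IsRegularLocalRing (Localization.AtPrime q') := IsRegularRing.isRegularLocalRing_localization _
  have hlq : Ideal.ofList l ≤ q' := fun x hx => by
    show p x ∈ q
    rw [show p x = 0 from Ideal.Quotient.eq_zero_iff_mem.2 hx]; exact q.zero_mem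
  let φ := Localization.localRingHom q' q p rfl
  have hφ : Function.Surjective φ := fun y => by
    obtain ⟨⟨a, s⟩, rfl⟩ := IsLocalization.mk'_surjective q.primeCompl y
    obtain ⟨a, rfl⟩ := hp a
    obtain ⟨t', ht⟩ := hp (s : S ⧸ Ideal.ofList l)
    refine ⟨IsLocalization.mk' _ a (⟨t', show p t' ∉ q from ht ▸ s.2⟩ : q'.primeCompl), ?_⟩
    rw [Localization.localRingHom_mk']
    congr 1
    exact Subtype.ext ht
  let rs := l.map (algebraMap S (Localization.AtPrime q'))
  have hker : RingHom.ker φ = Ideal.ofList rs := by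
    rw [TorCI.ker_localRingHom p hp q, Ideal.mk_ker, Ideal.map_ofList]
  have hreg : IsRegular (Localization.AtPrime q') rs := h q' hq hlq
  haveI : IsNoetherianRing (Localization.AtPrime q) := IsLocalization.isNoetherianRing q.primeCompl _ inferInstance
  obtain ⟨h1, h2⟩ := ci_facts φ hφ rs hreg hker
  rw [List.length_map, IsLocalization.AtPrime.ringKrullDim_eq_height q' (Localization.AtPrime q')] at h1
  haveI hR := CMFlat.isCohenMacaulayLocalRing_of_isRegularLocalRing S
  have h3 := CMChain.height_add_dim (A := S) (M := S) hR.supportDim_eq_depth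
    (by rw [Module.support_eq_zeroLocus, Module.annihilator_eq_bot.2 inferInstance]; simp)
    (⟨q', inferInstance⟩ : PrimeSpectrum S)
  change ringKrullDim (S ⧸ q') + _ = _ at h3
  have hquot : ringKrullDim (S ⧸ q') = ringKrullDim ((S ⧸ Ideal.ofList l) ⧸ q) :=
    ringKrullDim_eq_of_ringEquiv ((Ideal.quotEquivOfEq
      (by rw [← RingHom.comap_ker, Ideal.mk_ker] : RingHom.ker ((Ideal.Quotient.mk q).comp p) = q').symm).trans
        (RingHom.quotientKerEquivOfSurjective (f := (Ideal.Quotient.mk q).comp p)
          (Ideal.Quotient.mk_surjective.comp hp)))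
  obtain ⟨a, ha⟩ := GrpAct.exists_nat_ringKrullDim (Localization.AtPrime q)
  obtain ⟨b, hb⟩ := GrpAct.exists_nat_ringKrullDim ((S ⧸ Ideal.ofList l) ⧸ q)
  rw [ha] at h1 h2
  rw [hquot, hb, ← h1, hd] at h3
  refine ⟨a, b, ?_, h2.symm, hb, fun h3a => LefEssSurj.ciPurProp _ (Localization.AtPrime q') _ φ hφ rs rfl
    hreg hker (by rw [ha]; exact_mod_cast h3a)⟩
  norm_cast at h3
  omega

variable [IsAdicComplete (maximalIdeal S) S]

/-- The induction along the changed generators. -/
theorem purityHolds_aux {d : ℕ} (hd : ringKrullDim S = d) {I : Ideal S} (hI : I ≠ ⊤) [IsLocalRing (S ⧸ I)] :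
    ∀ (r l : List S) [IsLocalRing (S ⧸ Ideal.ofList l)], RegOff I l → Ideal.ofList l ⊔ Ideal.ofList r = I →
      l.length + r.length + 3 ≤ d → FEt.PurityHolds (S ⧸ Ideal.ofList l) → FEt.PurityHolds (S ⧸ I) := by
  intro r
  induction r with
  | nil =>
    intro l _ _ hsup _ h
    rw [Ideal.ofList_nil, sup_bot_eq] at hsup
    exact LefEssSurj.purityHolds_congr (Ideal.quotEquivOfEq hsup.symm) h
  | cons a r ih =>
    intro l _ hreg hsup hlen hpur
    classical
    have hfin : (Ideal.ofList l).minimalPrimes.Finite := Ideal.finite_minimalPrimes_of_isNoetherianRing S _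
    let T := hfin.toFinset.filter fun p => ¬ I ≤ p
    obtain ⟨y, hy, hT⟩ := CompAffine.exists_add_avoid (Ideal.ofList r) a T
      (fun p hp => (hfin.mem_toFinset.1 (Finset.mem_filter.1 hp).1).1.1) fun p hp => by
        by_contra hne
        push Not at hne
        refine (Finset.mem_filter.1 hp).2 (hsup ▸ sup_le (hfin.mem_toFinset.1 (Finset.mem_filter.1 hp).1).1.2 ?_)
        rw [Ideal.ofList_cons]
        exact sup_le ((Ideal.span_singleton_le_iff_mem _).2 hne.1) hne.2
    let t := a + y
    have hreg' : RegOff I (l ++ [t]) := regOff_step hreg fun p hp hIp =>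
      hT p (Finset.mem_filter.2 ⟨hfin.mem_toFinset.2 hp, hIp⟩)
    have htI : t ∈ I := hsup ▸ Ideal.mem_sup_right (by
      rw [Ideal.ofList_cons]
      exact Ideal.add_mem _ (Ideal.mem_sup_left (Ideal.mem_span_singleton_self a)) (Ideal.mem_sup_right hy))
    have hsup' : Ideal.ofList (l ++ [t]) ⊔ Ideal.ofList r = I := by
      rw [← hsup, Ideal.ofList_append, Ideal.ofList_singleton, sup_assoc, Ideal.ofList_cons]
      congr 1
      refine le_antisymm (sup_le ((Ideal.span_singleton_le_iff_mem _).2 (Ideal.add_mem _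
        (Ideal.mem_sup_left (Ideal.mem_span_singleton_self a)) (Ideal.mem_sup_right hy))) le_sup_right)
        (sup_le ((Ideal.span_singleton_le_iff_mem _).2 ?_) le_sup_right)
      have h : t - y ∈ Ideal.span {t} ⊔ Ideal.ofList r :=
        Ideal.sub_mem _ (Ideal.mem_sup_left (Ideal.mem_span_singleton_self t)) (Ideal.mem_sup_right hy)
      simpa [t] using h
    have hlI : Ideal.ofList l ≤ I := hsup ▸ le_sup_left
    let p := Ideal.Quotient.mk (Ideal.ofList l)
    let A := S ⧸ Ideal.ofList l
    let f : A := p t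
    have hf : f ∈ maximalIdeal A := by
      haveI : IsLocalHom p := IsLocalHom.of_surjective _ Ideal.Quotient.mk_surjective
      exact (mem_maximalIdeal f).2 fun hu => (mem_maximalIdeal t).1 (le_maximalIdeal hI htI) (isUnit_of_map_unit p t hu)
    have hq : ∀ q : Ideal A, f ∉ q → ¬ I ≤ q.comap p := fun q hfq hle => hfq (hle htI)
    have hI' : Ideal.ofList (l ++ [t]) ≠ ⊤ := ne_top_of_le_ne_top hI (hsup' ▸ le_sup_left)
    haveI : Nontrivial (S ⧸ Ideal.ofList (l ++ [t])) := Ideal.Quotient.nontrivial_iff.2 hI'
    haveI : IsLocalRing (S ⧸ Ideal.ofList (l ++ [t])) := .of_surjective' (Ideal.Quotient.mk _) Ideal.Quotient.mk_surjective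
    have hkp : RingHom.ker ((Ideal.Quotient.mk (Ideal.span {p t})).comp p) = Ideal.ofList (l ++ [t]) := by
      rw [← RingHom.comap_ker, Ideal.mk_ker, show Ideal.span {p t} = (Ideal.span {t}).map p by rw [Ideal.map_span, Set.image_singleton],
        Ideal.comap_map_of_surjective p Ideal.Quotient.mk_surjective, ← RingHom.ker_eq_comap_bot, Ideal.mk_ker, Ideal.ofList_append, sup_comm]
      simp
    let e : (A ⧸ Ideal.span {f}) ≃+* S ⧸ Ideal.ofList (l ++ [t]) :=
      (RingHom.quotientKerEquivOfSurjective (f := (Ideal.Quotient.mk (Ideal.span {p t})).comp p)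
        (Ideal.Quotient.mk_surjective.comp Ideal.Quotient.mk_surjective)).symm.trans (Ideal.quotEquivOfEq hkp)
    haveI : IsLocalRing (A ⧸ Ideal.span {f}) := e.symm.isLocalRing
    haveI : IsAdicComplete (maximalIdeal A) A := EGA41FS.isAdicComplete_quotient _
    haveI : IsAdicComplete (Ideal.span {f}) A :=
      EGA41Cohen.isAdicComplete_ideal _ (ne_top_of_le_ne_top (maximalIdeal.isMaximal A).ne_top
        ((Ideal.span_singleton_le_iff_mem _).2 hf))
    haveI : IsRegularRing S := SerreReg.isRegularRing_of_isRegularLocalRing S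
    have hdual : ∃ ω : Dual.D A, Dual.IsDualizing A ω :=
      DualCx.EssFin.of_surjective ⟨_, S11185.result S (fun P => IsRegularRing.isRegularLocalRing_localization P.asIdeal)
        (by rw [hd]; exact WithBot.coe_lt_coe.2 (ENat.coe_lt_top d))⟩ p Ideal.Quotient.mk_surjective
    rw [List.length_cons] at hlen
    have hnext : FEt.PurityHolds (A ⧸ Ideal.span {f}) := by
      refine LefEssSurj.purityHolds_quotient_of_ext hf
        (LefEssSurj.extendsNearDiv_of_depth hdual (Or.inr fun q _ hfq _ => ?_)) (fun q _ hfq _ hdim => ?_) hpur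
      · obtain ⟨a, b, hab, ha, hb, -⟩ := ci_atPrime hreg hd q (hq q hfq)
        rw [ha, hb]
        norm_cast
        omega
      · obtain ⟨a, b, hab, -, hb, hpa⟩ := ci_atPrime hreg hd q (hq q hfq)
        rw [hdim] at hb
        norm_cast at hb
        exact hpa (by omega)
    exact ih (l ++ [t]) hreg' hsup' (by rw [List.length_append, List.length_singleton]; omega)
      (LefEssSurj.purityHolds_congr e.symm hnext)

/-- Purity for a quotient of a complete regular local ring by at most `dim - 3` elements. -/
theorem purityHolds_quotient {d : ℕ} (hd : ringKrullDim S = d) (r : List S) (hr : r.length + 3 ≤ d)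
    [IsLocalRing (S ⧸ Ideal.ofList r)] : FEt.PurityHolds (S ⧸ Ideal.ofList r) := by
  have hI : Ideal.ofList r ≠ ⊤ := Ideal.Quotient.nontrivial_iff.1 inferInstance
  haveI : Nontrivial (S ⧸ Ideal.ofList ([] : List S)) := Ideal.Quotient.nontrivial_iff.2 (by rw [Ideal.ofList_nil]; exact bot_ne_top)
  haveI : IsLocalRing (S ⧸ Ideal.ofList ([] : List S)) := .of_surjective' (Ideal.Quotient.mk _) Ideal.Quotient.mk_surjective
  refine purityHolds_aux hd hI r [] (regOff_nil _) (by rw [Ideal.ofList_nil, bot_sup_eq]) (by simpa using hr) ?_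
  refine LefEssSurj.purityHolds_congr ((Ideal.quotEquivOfEq Ideal.ofList_nil).trans (RingEquiv.quotientBot S))
    (S0247.result S ?_)
  rw [hd]
  exact_mod_cast (by omega : 2 ≤ d)

end Groth.Agent.VdimThree
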