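import Groth.Agent.S14270
import Groth.Agent.S0258
import Groth.Agent.LefEssSurj.CI
import Groth.Agent.LefEssSurj.Extends
import Groth.Agent.FlatDepth.Quot
import Groth.Agent.Catenary.CM
import Groth.Prelude.Def_CInt

/-!
# Purity of quotients of regular local rings of small deviation
-/

set_option autoImplicit false
set_option linter.style.haveILetI false

universe u

open IsLocalRing AlgebraicGeometry CategoryTheory RingTheory.Sequence

namespace Groth.Agent.VdimThree

/-- Purity for `R/(s)`, complete intersection or of small deviation. -/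
theorem isEquivalence_punctured {R A : Type u} [CommRing R] [IsRegularLocalRing R] [CommRing A]
    [IsNoetherianRing A] [IsLocalRing A] (φ : R →+* A) (hφ : Function.Surjective φ) (s : Finset R)
    (hker : RingHom.ker φ = Ideal.span (s : Set R)) (hdim : (3 : WithBot ℕ∞) ≤ ringKrullDim A)
    (h : CInt.IsRegularIdeal (Ideal.span (s : Set R)) ∨
      ((s.card + 3 : ℕ) : WithBot ℕ∞) ≤ ringKrullDim R) :
    (FEt.restrict (FEt.puncturedSpec A).ι).IsEquivalence := by
  classical
  rcases h with ⟨rs, hreg, hrs⟩ | h
  · have hker' : RingHom.ker φ = Ideal.ofList rs := hker.trans hrs.symm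
    have hpur : FEt.PurityHolds A :=
      LefEssSurj.ciPurProp rs.length R A φ hφ rs rfl hreg hker' hdim
    obtain ⟨h1, h2⟩ := S0258.result A
      (le_trans (by norm_num) (LefEssSurj.three_le_depth φ hφ rs hreg hker' hdim))
    haveI := h1
    haveI := h2
    haveI : (FEt.restrict (FEt.puncturedSpec A).ι).EssSurj := hpur
    exact { }
  · obtain ⟨ψ, hψ, -, hkψ⟩ := FlatDepth.exists_cpl_quotient φ hφ
    let S := AdicCompletion (maximalIdeal R) R
    haveI : IsRegularLocalRing S := (AdicBasics.isRegularLocalRing_completion_iff R).1 inferInstance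
    obtain ⟨d, hd⟩ := SerreReg.exists_dim_nat R
    let t : Finset S := s.image (algebraMap R S)
    have ht : t.card + 3 ≤ d := by
      have h1 : t.card ≤ s.card := Finset.card_image_le
      rw [hd] at h
      have h2 : s.card + 3 ≤ d := by exact_mod_cast h
      omega
    have hk : RingHom.ker ψ = Ideal.span (t : Set S) := by
      rw [hkψ, hker, Ideal.map_span, Finset.coe_image]
    exact S14270.result A S d (by rw [AdicBasics.ringKrullDim_completion, hd]) t ht
      ((RingHom.quotientKerEquivOfSurjective hψ).symm.trans (Ideal.quotEquivOfEq hk))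

/-- The same for the completion of `R/(s)`. -/
theorem isEquivalence_punctured_completion {R A : Type u} [CommRing R] [IsRegularLocalRing R] [CommRing A]
    [IsNoetherianRing A] [IsLocalRing A] (φ : R →+* A) (hφ : Function.Surjective φ) (s : Finset R)
    (hker : RingHom.ker φ = Ideal.span (s : Set R)) (hdim : (3 : WithBot ℕ∞) ≤ ringKrullDim A)
    (h : CInt.IsRegularIdeal (Ideal.span (s : Set R)) ∨
      ((s.card + 3 : ℕ) : WithBot ℕ∞) ≤ ringKrullDim R) :
    (FEt.restrict (FEt.puncturedSpec (AdicCompletion (maximalIdeal A) A)).ι).IsEquivalence := by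
  classical
  obtain ⟨ψ, hψ, -, hkψ⟩ := FlatDepth.exists_cpl_quotient φ hφ
  let S := AdicCompletion (maximalIdeal R) R
  haveI : IsRegularLocalRing S := (AdicBasics.isRegularLocalRing_completion_iff R).1 inferInstance
  have hk : RingHom.ker ψ = Ideal.span ((s.image (algebraMap R S) : Finset S) : Set S) := by
    rw [hkψ, hker, Ideal.map_span, Finset.coe_image]
  refine isEquivalence_punctured ψ hψ (s.image (algebraMap R S)) hk
    (by rw [AdicBasics.ringKrullDim_completion]; exact hdim) ?_
  rcases h with ⟨rs, hreg, hrs⟩ | h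
  · refine Or.inl ⟨rs.map (algebraMap R S), ?_, ?_⟩
    · haveI : Module.Flat R S := inferInstance
      refine (IsLocalRing.isRegular_iff_isWeaklyRegular_of_subset_maximalIdeal fun x hx =>
        le_maximalIdeal (RingHom.ker_ne_top ψ) ?_).2 hreg.toIsWeaklyRegular.of_flat
      rw [hkψ, hker, ← hrs, Ideal.map_ofList]
      exact Ideal.subset_span hx
    · rw [← Ideal.map_ofList, hrs, Ideal.map_span, Finset.coe_image]
  · refine Or.inr (le_trans ?_ (AdicBasics.ringKrullDim_completion R).ge)
    refine le_trans ?_ h
    exact_mod_cast Nat.add_le_add_right Finset.card_image_le 3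

/-- Heights along a strictly monotone map. -/
theorem height_add_le_of_strictMono {α β : Type*} [Preorder α] [Preorder β] {f : α → β} (hf : StrictMono f)
    {c : ℕ} (hc : ∀ a, (c : ℕ∞) ≤ Order.height (f a)) :
    ∀ (n : ℕ) (a : α), (n : ℕ∞) ≤ Order.height a → ((n + c : ℕ) : ℕ∞) ≤ Order.height (f a) := by
  intro n
  induction n with
  | zero => intro a _; simpa using hc a
  | succ n ih =>
    intro a ha
    obtain ⟨p, hp, hlen⟩ := Order.exists_series_of_le_height a ha
    have hlt : p.eraseLast.last < a := hp ▸ p.eraseLast_last_rel_last (by omega)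
    have h1 : (n : ℕ∞) ≤ Order.height p.eraseLast.last :=
      le_trans (by rw [RelSeries.eraseLast_length, hlen]; simp) Order.length_le_height_last
    have h2 := (add_le_add_left (ih _ h1) 1).trans (Order.height_add_one_le (hf hlt))
    refine le_trans (le_of_eq ?_) h2
    push_cast
    ring

/-- Primes of `R/I` of height `h` come from primes of height at least `h + codim I`. -/
theorem height_add_le_height_comap {R A : Type u} [CommRing R] [IsRegularLocalRing R] [CommRing A]
    [IsLocalRing A] (φ : R →+* A) (hφ : Function.Surjective φ) (c : ℕ)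
    (hc : ringKrullDim R = ringKrullDim A + (c : WithBot ℕ∞)) (Q : Ideal A) [Q.IsPrime] :
    Q.height + (c : ℕ∞) ≤ (Q.comap φ).height := by
  haveI := CMFlat.isCohenMacaulayLocalRing_of_isRegularLocalRing R
  haveI : IsNoetherianRing A := isNoetherianRing_of_surjective R A φ hφ
  obtain ⟨d, hd⟩ := SerreReg.exists_dim_nat R
  obtain ⟨a, ha⟩ := SerreReg.exists_dim_nat A
  have hall : ∀ P : PrimeSpectrum A, (c : ℕ∞) ≤ Order.height (P.comap φ) := by
    intro P
    let P' := P.asIdeal.comap φ
    have h1 := Catenary.height_add_dim P'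
    have h2 : ringKrullDim (R ⧸ P') ≤ ringKrullDim A := by
      rw [ringKrullDim_eq_of_ringEquiv ((Ideal.quotEquivOfEq (by rw [← RingHom.comap_ker, Ideal.mk_ker] :
        RingHom.ker ((Ideal.Quotient.mk P.asIdeal).comp φ) = P').symm).trans
        (RingHom.quotientKerEquivOfSurjective (f := (Ideal.Quotient.mk P.asIdeal).comp φ)
          (Ideal.Quotient.mk_surjective.comp hφ)))]
      exact ringKrullDim_quotient_le _
    suffices h : (c : ℕ∞) ≤ P'.height by
      exact h.trans (le_of_eq (PrimeSpectrum.height_eq_orderHeight (P.comap φ)))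
    obtain ⟨b, hb⟩ := SerreReg.exists_dim_nat (R ⧸ P')
    obtain ⟨e, he⟩ := ENat.ne_top_iff_exists.1 (Ideal.height_ne_top (I := P') Ideal.IsPrime.ne_top')
    rw [← he, hb, hd] at h1
    rw [hb, ha] at h2
    rw [hd, ha] at hc
    rw [← he]
    norm_cast at h1 h2 hc ⊢
    omega
  obtain ⟨n, hn⟩ := ENat.ne_top_iff_exists.1 (Ideal.height_ne_top (I := Q) Ideal.IsPrime.ne_top')
  have hmono : StrictMono (PrimeSpectrum.comap φ) := fun x y hxy =>
    lt_of_le_of_ne (Ideal.comap_mono hxy.le) fun he =>
      hxy.ne (PrimeSpectrum.comap_injective_of_surjective φ hφ he)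
  have h := height_add_le_of_strictMono hmono hall n ⟨Q, inferInstance⟩
    (le_of_eq (hn.trans (PrimeSpectrum.height_eq_orderHeight ⟨Q, inferInstance⟩)))
  have h' : ((n + c : ℕ) : ℕ∞) ≤ (Q.comap φ).height :=
    h.trans (le_of_eq (PrimeSpectrum.height_eq_orderHeight _).symm)
  rw [← hn]
  exact_mod_cast h'

/-- The two cases at a prime of `R/(s)`. -/
theorem isEquivalence_completion_atPrime {R : Type u} [CommRing R] [IsRegularLocalRing R] (s : Finset R)
    [IsLocalRing (R ⧸ Ideal.span (↑s : Set R))] (c : ℕ)
    (hc : ringKrullDim R = ringKrullDim (R ⧸ Ideal.span (↑s : Set R)) + (c : WithBot ℕ∞))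
    (hci : ∀ (Q : Ideal (R ⧸ Ideal.span (↑s : Set R))) [Q.IsPrime],
      Q.height + (c : ℕ∞) ≤ ((2 + s.card : ℕ) : ℕ∞) → CInt.IsRegularIdeal ((Ideal.span (↑s : Set R)).map
        (algebraMap R (Localization.AtPrime (Q.comap (Ideal.Quotient.mk (Ideal.span (↑s : Set R))))))))
    (Q : Ideal (R ⧸ Ideal.span (↑s : Set R))) [Q.IsPrime] (hQ : (3 : ℕ∞) ≤ Q.height) :
    (FEt.restrict (FEt.puncturedSpec (Localization.AtPrime Q)).ι).IsEquivalence ∧
    (FEt.restrict (FEt.puncturedSpec
      (AdicCompletion (maximalIdeal (Localization.AtPrime Q)) (Localization.AtPrime Q))).ι).IsEquivalence := by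
  classical
  let p := Ideal.Quotient.mk (Ideal.span (↑s : Set R))
  let q' := Q.comap p
  haveI : IsRegularRing R := SerreReg.isRegularRing_of_isRegularLocalRing R
  let R' := Localization.AtPrime q'
  haveI : IsRegularLocalRing R' := IsRegularRing.isRegularLocalRing_localization _
  haveI : IsNoetherianRing (Localization.AtPrime Q) := IsLocalization.isNoetherianRing Q.primeCompl _ inferInstance
  let φ := Localization.localRingHom q' Q p rfl
  have hφ : Function.Surjective φ :=
    RingHom.surjective_localRingHom_of_surjective p Ideal.Quotient.mk_surjective Q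
  let t : Finset R' := s.image (algebraMap R R')
  have ht : Ideal.span (t : Set R') = (Ideal.span (↑s : Set R)).map (algebraMap R R') := by
    rw [Ideal.map_span, Finset.coe_image]
  have hker : RingHom.ker φ = Ideal.span (t : Set R') := by
    rw [TorCI.ker_localRingHom p Ideal.Quotient.mk_surjective Q, Ideal.mk_ker, ht]
  have hdim : (3 : WithBot ℕ∞) ≤ ringKrullDim (Localization.AtPrime Q) := by
    rw [IsLocalization.AtPrime.ringKrullDim_eq_height Q (Localization.AtPrime Q)]
    exact WithBot.coe_le_coe.2 hQ
  have h : CInt.IsRegularIdeal (Ideal.span (t : Set R')) ∨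
      ((t.card + 3 : ℕ) : WithBot ℕ∞) ≤ ringKrullDim R' := by
    by_cases hle : Q.height + (c : ℕ∞) ≤ ((2 + s.card : ℕ) : ℕ∞)
    · exact Or.inl (ht ▸ hci Q hle)
    · right
      have h1 := height_add_le_height_comap p Ideal.Quotient.mk_surjective c hc Q
      have h2 : ((t.card + 3 : ℕ) : ℕ∞) ≤ q'.height := by
        refine le_trans ?_ h1
        obtain ⟨n, hn⟩ := ENat.ne_top_iff_exists.1 (Ideal.height_ne_top (I := Q) Ideal.IsPrime.ne_top')
        rw [← hn] at hle ⊢
        have h3 : t.card ≤ s.card := Finset.card_image_le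
        norm_cast at hle ⊢
        omega
      rw [IsLocalization.AtPrime.ringKrullDim_eq_height q' R']
      exact WithBot.coe_le_coe.2 h2
  exact ⟨isEquivalence_punctured φ hφ t hker hdim h, isEquivalence_punctured_completion φ hφ t hker hdim h⟩

/-- Transfer of purity of the punctured spectrum along a ring isomorphism. -/
theorem isPurePair_congr {A B : Type u} [CommRing A] [IsLocalRing A] [CommRing B] [IsLocalRing B] (e : A ≃+* B)
    [(FEt.restrict (FEt.puncturedSpec B).ι).IsEquivalence] :
    SGA2.IsPurePair (Spec (CommRingCat.of A)) (FEt.puncturedSpec A) := by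
  rw [LefEssSurj.isPurePair_punctured_iff]
  let b := Spec.map (CommRingCat.ofHom e.toRingHom)
  haveI : IsIso b := by
    haveI : IsIso (CommRingCat.ofHom e.toRingHom) := e.toCommRingCatIso.isIso_hom
    infer_instance
  haveI : IsLocalHom e.toRingHom := IsLocalHom.of_surjective _ e.surjective
  have hpre : b ⁻¹ᵁ FEt.puncturedSpec A = FEt.puncturedSpec B := FormAlg.preimage_punctured _ (by
    rw [IsLocalRing.map_maximalIdeal_of_surjective e.toRingHom e.surjective]; exact Ideal.le_radical)
  exact LefEssSurj.isEquivalence_transfer (FEt.puncturedSpec A).ι (FEt.puncturedSpec B).ι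
    ((Scheme.isoOfEq _ hpre.symm).hom ≫ b ∣_ FEt.puncturedSpec A) b
    (by rw [Category.assoc, morphismRestrict_ι, Scheme.isoOfEq_hom_ι_assoc])

end Groth.Agent.VdimThree
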