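import Groth.Agent.H4Easy.Batch5
import Groth.Agent.S2007
import Mathlib.RingTheory.Etale.Descent
import Mathlib.RingTheory.Finiteness.Descent
import Mathlib.RingTheory.AdicCompletion.LocalRing

/-!
Gluing a finite etale algebra over the completion to an algebra over the punctured spectrum.
-/

set_option autoImplicit false
set_option maxHeartbeats 800000
set_option linter.style.haveILetI false

universe u

open TensorProduct

noncomputable section

namespace Groth.Agent.VdimThree

theorem exists_pow_kill {R M : Type u} [CommRing R] [AddCommGroup M] [Module R M] {I : Ideal R} (hI : I.FG) (x : M)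
    (h : ∀ f ∈ I, ∃ n : ℕ, f ^ n • x = 0) : ∃ N : ℕ, ∀ a ∈ I ^ N, a • x = 0 := by
  let J : Ideal R := LinearMap.ker (LinearMap.toSpanSingleton R M x)
  have hle : I ≤ J.radical := fun f hf => by
    obtain ⟨n, hn⟩ := h f hf
    exact ⟨n, hn⟩
  obtain ⟨N, hN⟩ := Ideal.exists_pow_le_of_le_radical_of_fg hle hI
  exact ⟨N, fun a ha => hN ha⟩

variable (R S : Type u) [CommRing R] [CommRing S] [Algebra R S] [Module.Flat R S] (I : Ideal R)

/-- Formal gluing for algebras: the fibre product is a model over the base. -/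
theorem exists_algebra_glue (hI : I.FG)
    (hq : Function.Bijective (Ideal.quotientMap (I.map (algebraMap R S)) (algebraMap R S) Ideal.le_comap_map))
    (N : Type u) [CommRing N] [Algebra R N] (C : Type u) [CommRing C] [Algebra S C] (φ : C →ₐ[S] S ⊗[R] N)
    (hker : ∀ x : C, φ x = 0 → ∀ f ∈ I, ∃ n : ℕ, algebraMap R S f ^ n • x = 0)
    (hcoker : ∀ y : S ⊗[R] N, ∀ f ∈ I, ∃ n : ℕ, algebraMap R S f ^ n • y ∈ φ.range) :
    ∃ (E : Type u) (_ : CommRing E) (_ : Algebra R E) (ψ : E →ₐ[R] N) (e : S ⊗[R] E ≃ₐ[S] C),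
      (∀ z, φ (e z) = Algebra.TensorProduct.map (AlgHom.id S S) ψ z) ∧
      (∀ m : E, ψ m = 0 → ∀ f ∈ I, ∃ n : ℕ, f ^ n • m = 0) ∧
      (∀ b : N, ∀ f ∈ I, ∃ n : ℕ, f ^ n • b ∈ ψ.range) := by
  classical
  letI : Algebra R C := ((algebraMap S C).comp (algebraMap R S)).toAlgebra
  haveI : IsScalarTower R S C := IsScalarTower.of_algebraMap_eq fun r => rfl
  have hqn : ∀ k : ℕ, 0 < k → Function.Bijective
      (Ideal.quotientMap (Ideal.map (algebraMap R S) (I ^ k)) (algebraMap R S) Ideal.le_comap_map) := fun k _ =>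
    Groth.Agent.S2007.quot_pow_bijective R S I hq k
  let E : Subalgebra R (C × N) :=
    AlgHom.equalizer ((φ.restrictScalars R).comp (AlgHom.fst R C N))
      ((Algebra.TensorProduct.includeRight : N →ₐ[R] S ⊗[R] N).comp (AlgHom.snd R C N))
  let p : E →ₐ[R] C := (AlgHom.fst R C N).comp E.val
  let ψ : E →ₐ[R] N := (AlgHom.snd R C N).comp E.val
  have hrange : ∀ m : E, φ (p m) = (1 : S) ⊗ₜ[R] ψ m := fun m => m.2
  have hlift : ∀ x y, φ x = (1 : S) ⊗ₜ[R] y → ∃ m : E, p m = x ∧ ψ m = y := fun x y hxy => ⟨⟨(x, y), hxy⟩, rfl, rfl⟩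
  have hinj0 : ∀ m : E, p m = 0 → ψ m = 0 → m = 0 := fun m h1 h2 => Subtype.ext (Prod.ext h1 h2)
  have hsmul : ∀ (a : R) (x : C), a • x = algebraMap R S a • x := fun a x => (algebraMap_smul S a x).symm
  have hkerψ : ∀ m : E, ψ m = 0 → ∀ f ∈ I, ∃ n : ℕ, f ^ n • m = 0 := fun m hm f hf => by
    obtain ⟨n, hn⟩ := hker (p m) (by rw [hrange, hm, TensorProduct.tmul_zero]) f hf
    refine ⟨n, hinj0 _ ?_ ?_⟩
    · rw [map_smul, hsmul, map_pow]; exact hn
    · rw [map_smul, hm, smul_zero]
  have hcokψ : ∀ b : N, ∀ f ∈ I, ∃ n : ℕ, f ^ n • b ∈ ψ.range := fun b f hf => by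
    obtain ⟨n, x, hx⟩ := hcoker ((1 : S) ⊗ₜ b) f hf
    obtain ⟨m, -, hm⟩ := hlift x (f ^ n • b) (by
      rw [show φ x = _ from hx, TensorProduct.tmul_smul, ← map_pow, algebraMap_smul])
    exact ⟨n, m, hm⟩
  let e0 : S ⊗[R] E →ₗ[S] C := p.toLinearMap.liftBaseChange S
  have hcomm : φ.toLinearMap ∘ₗ e0 = ψ.toLinearMap.baseChange S := by
    refine TensorProduct.AlgebraTensorModule.ext fun s m => ?_
    show φ (e0 (s ⊗ₜ m)) = ψ.toLinearMap.baseChange S (s ⊗ₜ m)
    rw [LinearMap.baseChange_tmul]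
    simp only [e0, LinearMap.liftBaseChange_tmul, map_smul, AlgHom.toLinearMap_apply]
    rw [hrange, TensorProduct.smul_tmul', smul_eq_mul, mul_one]
  have hinj : Function.Injective e0 := by
    refine (injective_iff_map_eq_zero _).2 fun z hz => ?_
    have h0 : ψ.toLinearMap.lTensor S z = 0 := by
      have := LinearMap.congr_fun hcomm z
      rw [LinearMap.comp_apply, hz, map_zero] at this
      exact this.symm.trans rfl
    let K := LinearMap.ker ψ.toLinearMap
    have hex2 := @Module.Flat.lTensor_exact R S _ _ _ _ K E N _ _ _ _ _ _ K.subtype ψ.toLinearMap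
      (LinearMap.exact_subtype_ker_map _)
    obtain ⟨w, rfl⟩ := (hex2 z).1 h0
    have htor : LocCoh.IsPowerTorsion I K := fun x => exists_pow_kill hI x fun f hf => by
      obtain ⟨n, hn⟩ := hkerψ x.1 x.2 f hf
      exact ⟨n, Subtype.ext hn⟩
    obtain ⟨x, rfl⟩ := (H4Easy.powerTorsion_baseChange I hqn _ htor).2 w
    rw [LinearMap.lTensor_tmul] at hz ⊢
    simp only [e0, LinearMap.liftBaseChange_tmul, one_smul] at hz
    have : x = 0 := Subtype.ext (hinj0 _ hz x.2)
    rw [this, map_zero, TensorProduct.tmul_zero]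
  have hsurj : Function.Surjective e0 := by
    intro y
    let Q := N ⧸ LinearMap.range ψ.toLinearMap
    have htor : LocCoh.IsPowerTorsion I Q := fun c => exists_pow_kill hI c fun f hf => by
      obtain ⟨b, rfl⟩ := Submodule.Quotient.mk_surjective _ c
      obtain ⟨n, m, hm⟩ := hcokψ b f hf
      refine ⟨n, ?_⟩
      rw [← Submodule.Quotient.mk_smul, Submodule.Quotient.mk_eq_zero]
      exact ⟨m, hm⟩
    obtain ⟨c, hc⟩ := (H4Easy.powerTorsion_baseChange I hqn _ htor).2
      ((LinearMap.range ψ.toLinearMap).mkQ.lTensor S (φ y))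
    obtain ⟨b, rfl⟩ := Submodule.Quotient.mk_surjective _ c
    have h0 : (LinearMap.range ψ.toLinearMap).mkQ.lTensor S (φ y - (1 : S) ⊗ₜ b) = 0 := by
      rw [map_sub, LinearMap.lTensor_tmul, ← hc]
      exact sub_self _
    obtain ⟨z, hz⟩ := (lTensor_exact S (LinearMap.exact_map_mkQ_range ψ.toLinearMap)
      (Submodule.mkQ_surjective _) _).1 h0
    have h1 : φ (e0 z) = φ y - (1 : S) ⊗ₜ b := (LinearMap.congr_fun hcomm z).trans hz
    obtain ⟨m, hm, -⟩ := hlift (y - e0 z) b (by rw [map_sub, h1, sub_sub_cancel])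
    refine ⟨z + (1 : S) ⊗ₜ[R] m, ?_⟩
    rw [map_add]
    simp only [e0, LinearMap.liftBaseChange_tmul, one_smul, AlgHom.toLinearMap_apply, hm]
    exact add_sub_cancel _ _
  let e' : S ⊗[R] E →ₐ[S] C := Algebra.TensorProduct.lift (Algebra.ofId S C) p fun _ _ => mul_comm _ _
  have he' : (e' : S ⊗[R] E → C) = e0 := by
    funext w
    induction w using TensorProduct.induction_on with
    | zero => simp
    | tmul r a =>
      simp only [e0, e', LinearMap.liftBaseChange_tmul, Algebra.smul_def, Algebra.TensorProduct.lift_tmul]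
      rfl
    | add a b ha hb => rw [map_add, map_add, ha, hb]
  refine ⟨E, inferInstance, inferInstance, ψ, AlgEquiv.ofBijective e' (he' ▸ ⟨hinj, hsurj⟩), fun z => ?_, hkerψ, hcokψ⟩
  rw [AlgEquiv.coe_ofBijective, he']
  exact (LinearMap.congr_fun hcomm z).trans rfl

/-- The glued algebra is finite etale. -/
theorem exists_finite_etale_glue [Module.FaithfullyFlat R S] (hI : I.FG)
    (hq : Function.Bijective (Ideal.quotientMap (I.map (algebraMap R S)) (algebraMap R S) Ideal.le_comap_map))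
    (N : Type u) [CommRing N] [Algebra R N] (C : Type u) [CommRing C] [Algebra S C] [Module.Finite S C] [Algebra.Etale S C]
    (φ : C →ₐ[S] S ⊗[R] N)
    (hker : ∀ x : C, φ x = 0 → ∀ f ∈ I, ∃ n : ℕ, algebraMap R S f ^ n • x = 0)
    (hcoker : ∀ y : S ⊗[R] N, ∀ f ∈ I, ∃ n : ℕ, algebraMap R S f ^ n • y ∈ φ.range) :
    ∃ (E : Type u) (_ : CommRing E) (_ : Algebra R E) (ψ : E →ₐ[R] N),
      Module.Finite R E ∧ Algebra.Etale R E ∧
      (∀ m : E, ψ m = 0 → ∀ f ∈ I, ∃ n : ℕ, f ^ n • m = 0) ∧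
      (∀ b : N, ∀ f ∈ I, ∃ n : ℕ, f ^ n • b ∈ ψ.range) := by
  obtain ⟨E, _, _, ψ, e, -, h1, h2⟩ := exists_algebra_glue R S I hI hq N C φ hker hcoker
  haveI : Module.Finite S (S ⊗[R] E) := Module.Finite.equiv e.symm.toLinearEquiv
  haveI : Algebra.Etale S (S ⊗[R] E) := Algebra.Etale.of_equiv e.symm
  exact ⟨E, inferInstance, inferInstance, ψ, Module.Finite.of_finite_tensorProduct_of_faithfullyFlat S,
    Algebra.Etale.of_etale_tensorProduct_of_faithfullyFlat (T := S), h1, h2⟩

omit [Module.Flat R S] in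
/-- A Noetherian local ring and its completion agree modulo the maximal ideal. -/
theorem bijective_quotientMap_completion (A : Type u) [CommRing A] [IsNoetherianRing A] [IsLocalRing A] :
    Function.Bijective (Ideal.quotientMap
      ((IsLocalRing.maximalIdeal A).map (algebraMap A (AdicCompletion (IsLocalRing.maximalIdeal A) A)))
      (algebraMap A (AdicCompletion (IsLocalRing.maximalIdeal A) A)) Ideal.le_comap_map) := by
  let B := AdicCompletion (IsLocalRing.maximalIdeal A) A
  refine ⟨?_, fun z => ?_⟩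
  · refine Ideal.quotientMap_injective' ?_
    rw [← AdicCompletion.maximalIdeal_eq_map (R := A)]
    exact (IsLocalRing.maximalIdeal_comap (algebraMap A B)).le
  · obtain ⟨y, rfl⟩ := Ideal.Quotient.mk_surjective z
    obtain ⟨r, hr⟩ := (AdicCompletion.residueField_map_bijective A).2 (IsLocalRing.residue B y)
    obtain ⟨a, rfl⟩ := IsLocalRing.residue_surjective r
    rw [IsLocalRing.ResidueField.map_residue] at hr
    refine ⟨Ideal.Quotient.mk _ a, ?_⟩
    rw [Ideal.quotientMap_mk, Ideal.Quotient.eq, ← AdicCompletion.maximalIdeal_eq_map (R := A)]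
    exact Ideal.Quotient.eq.1 hr

end Groth.Agent.VdimThree
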