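import Groth.Agent.VdimThree.Glue
import Groth.Agent.Hensel.Idempotent
import Mathlib.RingTheory.IntegralClosure.Algebra.Basic

/-!
Idempotents modulo a henselian element descend from the completion by formal gluing.
-/

set_option autoImplicit false
set_option maxHeartbeats 800000
set_option linter.style.haveILetI false

universe u

open TensorProduct

noncomputable section

namespace Groth.Agent.VdimThree

/-- An idempotent modulo `f` lifts if it does so after a faithfully flat change which is an isomorphism modulo `I`. -/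
theorem exists_idempotent_descent (A S : Type u) [CommRing A] [CommRing S] [Algebra A S] [Module.FaithfullyFlat A S]
    (I : Ideal A) (hI : I.FG)
    (hq : Function.Bijective (Ideal.quotientMap (I.map (algebraMap A S)) (algebraMap A S) Ideal.le_comap_map))
    (f : A) [HenselianRing A (Ideal.span {f})]
    (N : Type u) [CommRing N] [Algebra A N] (N0 : Subalgebra A N) [Module.Finite A N0]
    (hN0 : ∀ b : N, ∀ g ∈ I, ∃ n : ℕ, g ^ n • b ∈ N0)
    (G : Type u) [CommRing G] [Algebra A G] (ρ : N →ₐ[A] G) (hf : algebraMap A G f = 0)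
    (hρ : ∀ x, ρ x = 0 → ∀ g ∈ I, ∃ (n : ℕ) (y : N), g ^ n • x = f • y)
    (eC : G) (heC : IsIdempotentElem eC) (eh : S ⊗[A] N) (heh : IsIdempotentElem eh)
    (hcomp : Algebra.TensorProduct.map (AlgHom.id S S) ρ eh = (1 : S) ⊗ₜ[A] eC) :
    ∃ e : N, IsIdempotentElem e ∧ ρ e = eC := by
  classical
  obtain ⟨gens, hgens⟩ := (Module.Finite.iff_fg (N := Subalgebra.toSubmodule N0)).1 ‹Module.Finite A N0›
  let T : Finset (S ⊗[A] N) := insert eh (gens.image fun x => (1 : S) ⊗ₜ[A] x)
  let C : Subalgebra S (S ⊗[A] N) := Algebra.adjoin S (T : Set (S ⊗[A] N))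
  have hN0C : ∀ x ∈ N0, (1 : S) ⊗ₜ[A] x ∈ C := by
    intro x hx
    rw [← Subalgebra.mem_toSubmodule, ← hgens] at hx
    induction hx using Submodule.span_induction with
    | mem x hx => exact Algebra.subset_adjoin (Finset.mem_insert_of_mem (Finset.mem_image_of_mem _ hx))
    | zero => rw [TensorProduct.tmul_zero]; exact zero_mem _
    | add x y _ _ hx hy => rw [TensorProduct.tmul_add]; exact add_mem hx hy
    | smul a x _ hx =>
      rw [TensorProduct.tmul_smul, ← algebraMap_smul S a, Algebra.smul_def]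
      exact mul_mem (Subalgebra.algebraMap_mem _ _) hx
  haveI : Module.Finite S C := by
    refine Module.Finite.iff_fg.2 (fg_adjoin_of_finite T.finite_toSet fun x hx => ?_)
    rcases Finset.mem_insert.1 hx with rfl | hx
    · exact ⟨Polynomial.X ^ 2 - Polynomial.X, Polynomial.monic_X_pow_sub (lt_of_le_of_lt Polynomial.degree_X_le (by norm_num)), by simp [sq, heh.eq]⟩
    · obtain ⟨y, hy, rfl⟩ := Finset.mem_image.1 hx
      have hy0 : y ∈ N0 := by
        rw [← Subalgebra.mem_toSubmodule, ← hgens]; exact Submodule.subset_span hy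
      have hint : IsIntegral A y := (Algebra.IsIntegral.isIntegral (⟨y, hy0⟩ : N0)).map N0.val
      exact (hint.map (Algebra.TensorProduct.includeRight : N →ₐ[A] S ⊗[A] N)).tower_top
  obtain ⟨E, _, _, ψ, e, hcompat, hkerψ, hcokψ⟩ := exists_algebra_glue A S I hI hq N C C.val
    (fun x hx g _ => ⟨0, by rw [pow_zero, one_smul]; exact Subtype.ext hx⟩) (fun y g hg => by
      have hy : ∃ n : ℕ, ∀ m, n ≤ m → algebraMap A S g ^ m • y ∈ C := by
        induction y using TensorProduct.induction_on with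
        | zero => exact ⟨0, fun m _ => by rw [smul_zero]; exact zero_mem _⟩
        | tmul s b =>
          obtain ⟨n, hn⟩ := hN0 b g hg
          refine ⟨n, fun m hm => ?_⟩
          obtain ⟨k, rfl⟩ := Nat.exists_eq_add_of_le hm
          have h1 : algebraMap A S g ^ (n + k) • s ⊗ₜ[A] b =
              (s * algebraMap A S g ^ k) • ((1 : S) ⊗ₜ[A] (g ^ n • b)) := by
            rw [TensorProduct.tmul_smul, ← algebraMap_smul S (g ^ n), map_pow, smul_smul, TensorProduct.smul_tmul',
              TensorProduct.smul_tmul']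
            congr 1
            simp only [smul_eq_mul, mul_one, pow_add]
            ring
          rw [h1]
          exact Subalgebra.smul_mem _ (hN0C _ hn) _
        | add a b ha hb =>
          obtain ⟨n, hn⟩ := ha
          obtain ⟨m, hm⟩ := hb
          exact ⟨max n m, fun k hk => by
            rw [smul_add]
            exact add_mem (hn k (le_of_max_le_left hk)) (hm k (le_of_max_le_right hk))⟩
      obtain ⟨n, hn⟩ := hy
      exact ⟨n, ⟨_, hn n le_rfl⟩, rfl⟩)
  haveI : Module.Finite S (S ⊗[A] E) := Module.Finite.equiv e.symm.toLinearEquiv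
  haveI : Module.Finite A E := Module.Finite.of_finite_tensorProduct_of_faithfullyFlat S
  haveI : Algebra.IsIntegral A E := Algebra.IsIntegral.of_finite A E
  let J : Ideal E := (Ideal.span {f}).map (algebraMap A E)
  let ρ0 : (E ⧸ J) →ₐ[A] G := Ideal.Quotient.liftₐ J (ρ.comp ψ) fun x hx => by
    have : J ≤ RingHom.ker (ρ.comp ψ).toRingHom := by
      rw [Ideal.map_le_iff_le_comap, Ideal.span_singleton_le_iff_mem, Ideal.mem_comap, RingHom.mem_ker]
      exact ((ρ.comp ψ).commutes f).trans hf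
    exact this hx
  let e1 : S ⊗[A] E := e.symm ⟨eh, Algebra.subset_adjoin (Finset.mem_insert_self _ _)⟩
  have he1 : IsIdempotentElem e1 := IsIdempotentElem.map (Subtype.ext heh.eq) e.symm
  let e0 : S ⊗[A] (E ⧸ J) := Algebra.TensorProduct.map (AlgHom.id S S) (Ideal.Quotient.mkₐ A J) e1
  have he0 : IsIdempotentElem e0 := he1.map _
  have he0' : ρ0.toLinearMap.lTensor S e0 = (1 : S) ⊗ₜ[A] eC := by
    rw [← hcomp, show eh = C.val (e e1) by simp [e1], hcompat]
    show ρ0.toLinearMap.lTensor S ((Ideal.Quotient.mkₐ A J).toLinearMap.lTensor S e1) =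
      ρ.toLinearMap.lTensor S (ψ.toLinearMap.lTensor S e1)
    rw [← LinearMap.lTensor_comp_apply, ← LinearMap.lTensor_comp_apply]
    rfl
  obtain ⟨x, hx⟩ : ∃ x, ρ0 x = eC := by
    have h := congrArg ((LinearMap.range ρ0.toLinearMap).mkQ.lTensor S) he0'
    rw [← LinearMap.lTensor_comp_apply, LinearMap.range_mkQ_comp, LinearMap.lTensor_zero, LinearMap.zero_apply,
      LinearMap.lTensor_tmul] at h
    have h' := (Module.FaithfullyFlat.tensorProduct_mk_injective (A := A) (B := S)
      (G ⧸ LinearMap.range ρ0.toLinearMap)) (a₁ := Submodule.Quotient.mk eC) (a₂ := 0)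
      (by rw [map_zero]; exact h.symm)
    exact (Submodule.Quotient.mk_eq_zero _).1 h'
  let K := LinearMap.ker ρ0.toLinearMap
  have htor : LocCoh.IsPowerTorsion I K := fun z => exists_pow_kill hI z fun g hg => by
    obtain ⟨z, hz⟩ := z
    obtain ⟨z, rfl⟩ := Ideal.Quotient.mk_surjective z
    obtain ⟨n, y, hy⟩ := hρ (ψ z) hz g hg
    obtain ⟨m, w, hw⟩ := hcokψ y g hg
    change ψ w = g ^ m • y at hw
    obtain ⟨k, hk⟩ := hkerψ (g ^ (m + n) • z - f • w)
      (by rw [map_sub, map_smul, map_smul, hw, pow_add, mul_smul, hy, smul_comm, sub_self]) g hg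
    refine ⟨k + (m + n), Subtype.ext ?_⟩
    show g ^ (k + (m + n)) • Ideal.Quotient.mk J z = 0
    rw [← Ideal.Quotient.mkₐ_eq_mk A, ← map_smul, Ideal.Quotient.mkₐ_eq_mk, Ideal.Quotient.eq_zero_iff_mem]
    have h1 : g ^ (k + (m + n)) • z = g ^ k • (f • w) := by
      rw [pow_add, mul_smul, ← sub_eq_zero, ← smul_sub, hk]
    rw [h1, smul_comm, Algebra.smul_def]
    exact Ideal.mul_mem_right _ _ (Ideal.mem_map_of_mem _ (Ideal.mem_span_singleton_self f))
  have hqn : ∀ k : ℕ, 0 < k → Function.Bijective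
      (Ideal.quotientMap (Ideal.map (algebraMap A S) (I ^ k)) (algebraMap A S) Ideal.le_comap_map) := fun k _ =>
    Groth.Agent.S2007.quot_pow_bijective A S I hq k
  have hker : ρ0.toLinearMap.lTensor S (e0 - (1 : S) ⊗ₜ[A] x) = 0 := by
    rw [map_sub, he0', LinearMap.lTensor_tmul, AlgHom.toLinearMap_apply, hx, sub_self]
  obtain ⟨w, hw⟩ := (@Module.Flat.lTensor_exact A S _ _ _ _ K (E ⧸ J) G _ _ _ _ _ _ K.subtype ρ0.toLinearMap
    (LinearMap.exact_subtype_ker_map _) _).1 hker
  obtain ⟨κ, rfl⟩ := (H4Easy.powerTorsion_baseChange I hqn _ htor).2 w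
  rw [LinearMap.lTensor_tmul, eq_sub_iff_add_eq, ← TensorProduct.tmul_add] at hw
  have hinj := Module.FaithfullyFlat.tensorProduct_mk_injective (A := A) (B := S) (E ⧸ J)
  let x' : E ⧸ J := (κ : E ⧸ J) + x
  have hx' : IsIdempotentElem x' := by
    apply hinj
    show (1 : S) ⊗ₜ[A] (x' * x') = (1 : S) ⊗ₜ[A] x'
    rw [show (1 : S) ⊗ₜ[A] (x' * x') = ((1 : S) ⊗ₜ[A] x') * ((1 : S) ⊗ₜ[A] x') by
      rw [Algebra.TensorProduct.tmul_mul_tmul, one_mul]]
    rw [show (1 : S) ⊗ₜ[A] x' = e0 from hw]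
    exact he0.eq
  obtain ⟨b, hb⟩ := Ideal.Quotient.mk_surjective x'
  obtain ⟨eE, heE, hdiff⟩ := Groth.Agent.Hensel.exists_idempotent_lift (I := Ideal.span {f}) b
    (Ideal.Quotient.eq.1 (by rw [map_mul, hb, hx'.eq]))
  refine ⟨ψ eE, heE.map ψ, ?_⟩
  have h1 : ρ0 (Ideal.Quotient.mk J eE) = eC := by
    rw [Ideal.Quotient.eq.2 hdiff, hb, map_add, show ρ0 (κ : E ⧸ J) = 0 from κ.2, zero_add, hx]
  exact h1

end Groth.Agent.VdimThree
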